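import Mathlib
import Cfsg.Prelude.Def_FusionSystem
import Cfsg.Prelude.Def_FusionComponents
import Cfsg.Agent.Lib.Helper3.KLBasic

/-!
# S5271 (weakly embedded subgroups of one order + inner normalizers => inner): definitions

Design (helper18).  `F` saturated over the finite `p`-group `S`, `d = p ^ k` with `1 < d < |S|`.
* `HypA F d` : every subgroup `Q ≤ S` of order `d` is weakly embedded: some strongly closed `P` has
  `Q ⊔ P` and `Q ⊓ P` strongly closed.
* `HypB F d` : the normalizer system of every fully normalized subgroup of order `d` is inner.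
* `ConjGE F d` : every map of `F` whose source has order `≥ d` is conjugation by an element of `S`.
* `InnerMod F Z` : every map of `F` is, modulo `Z`, conjugation by an element of `S`.
-/

set_option autoImplicit false

namespace Cfsg.Agent.Helper18.WE

open Cfsg Cfsg.FusionSystem Cfsg.Agent.Helper3.KL

variable {Ω : Type*} [Group Ω] {S : Subgroup Ω}

/-- hypothesis (a) of S5271 for the order `d` -/
def HypA (F : FusionSystem S) (d : ℕ) : Prop :=
  ∀ Q : Subgroup Ω, Q ≤ S → Nat.card Q = d →
    ∃ P : Subgroup Ω, F.StronglyClosed P ∧ F.StronglyClosed (Q ⊔ P) ∧ F.StronglyClosed (Q ⊓ P)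

/-- hypothesis (b) of S5271 for the order `d` -/
def HypB (F : FusionSystem S) (d : ℕ) : Prop :=
  ∀ H : Subgroup Ω, F.IsFullyNormalized H → Nat.card H = d →
    ∀ N : FusionSystem (normalizerIn S H), F.IsNormalizerSystem H N → IsInner N

/-- every map of the system on a subgroup of order at least `d` is conjugation by an element of `S` -/
def ConjGE (F : FusionSystem S) (d : ℕ) : Prop :=
  ∀ (K : Subgroup Ω) (ψ : K →* Ω), ψ ∈ F.Hom K → d ≤ Nat.card K →
    ∃ g ∈ S, ∀ x : K, ψ x = g * (x : Ω) * g⁻¹

/-- every map of the system is conjugation by an element of `S` modulo `Z` -/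
def InnerMod (F : FusionSystem S) (Z : Subgroup Ω) : Prop :=
  ∀ (P : Subgroup Ω) (φ : P →* Ω), φ ∈ F.Hom P →
    ∃ g ∈ S, ∀ x : P, (g * (x : Ω) * g⁻¹)⁻¹ * φ x ∈ Z

end Cfsg.Agent.Helper18.WE
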