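import Mathlib
import Cfsg.Agent.Lib.WE.WEDefs
import Cfsg.Agent.Lib.Helper25.FusionHyp

/-!
# S5271 piece WE-HYPINN: the hyperfocal subgroup of the inner system is trivial
`F.hyperfocalSubgroup p = closure {x⁻¹ * α x | P ≤ S, α ∈ pResidual p (F.autGroup P), x ∈ P}`,
`pResidual p G = closure {g | (orderOf g).Coprime p}`.

RECIPE.  In the inner system every `α ∈ autGroup P` (`P ≤ S`) is conjugation by some `g ∈ S` (`Helper25.mem_autGroup_iff` + definition of
`innerFusionSystem`), so it has `p`-power order (`Helper3.KL.aut_pow_eq_one_of_conj`); an element whose order is both a power of `p` and coprime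
to `p` is `1`; so the generators of `pResidual` are all `1`, `pResidual = ⊥`, and every generator `x⁻¹ * α x` of the hyperfocal subgroup is `1`.
-/

set_option autoImplicit false

namespace Cfsg.Agent.Helper18.WE

open Cfsg Cfsg.FusionSystem Cfsg.Agent.Helper25 Cfsg.Agent.Helper3.KL

variable {Ω : Type*} [Group Ω] {S : Subgroup Ω}

/-- the `p`-residual of a `p`-group is trivial -/
theorem wehypinn_pResidual_eq_bot {p : ℕ} [Fact p.Prime] {G : Type*} [Group G] (hG : IsPGroup p G) :
    pResidual p G = ⊥ := by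
  unfold pResidual
  rw [Subgroup.closure_eq_bot_iff]
  intro g hg
  change Nat.Coprime (orderOf g) p at hg
  rw [Set.mem_singleton_iff]
  obtain ⟨k, hk⟩ := hG g
  have h1 : orderOf g ∣ p ^ k := orderOf_dvd_of_pow_eq_one hk
  have h2 : Nat.Coprime (orderOf g) (p ^ k) := Nat.Coprime.pow_right k hg
  have h3 : orderOf g = 1 := Nat.Coprime.eq_one_of_dvd h2 h1
  exact orderOf_eq_one_iff.mp h3

theorem hyperfocal_inner_eq_bot [Finite S] (p : ℕ) [Fact p.Prime] (hS : IsPGroup p S) :
    (innerFusionSystem S).hyperfocalSubgroup p = ⊥ := by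
  unfold FusionSystem.hyperfocalSubgroup
  rw [Subgroup.closure_eq_bot_iff]
  rintro y ⟨P, α, x, hPS, hα, rfl⟩
  rw [Set.mem_singleton_iff]
  have hinner : IsInner (innerFusionSystem S) := fun P φ h => h.2
  have hpg : IsPGroup p ((innerFusionSystem S).autGroup P) :=
    isPGroup_autGroup_of_isInner hS (innerFusionSystem S) hinner hPS
  rw [wehypinn_pResidual_eq_bot hpg, Subgroup.mem_bot] at hα
  rw [hα]
  simp

end Cfsg.Agent.Helper18.WE
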