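import Mathlib
import Cfsg.Agent.Lib.WE.WEDefs
import Cfsg.Agent.Lib.Helper25.FusionSolv
import Cfsg.Agent.Lib.Helper25.FusionSat4

/-!
# S5271 piece WE-COVER (done by helper15): the covering lemma (pure lattice / `p`-group argument)

`L` is a set of subgroups of `R ≤ S`, closed under `⊔` and `⊓`, all normalized by `R`, containing `R ⊓ P`
for every strongly closed `P`.  If `X < X'` is a COVERING pair of `L` (nothing of `L` strictly between),
then `d` is not strictly between `|X|` and `|X'|`.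

RECIPE (`cover`).  Suppose `|X| < d < |X'|`.  `X'` is a finite `p`-group (`X' ≤ R ≤ S`), so there is `Q` with
`X ≤ Q ≤ X'`, `Nat.card Q = d` (work in the group `↥X'`: `Sylow.exists_subgroup_card_pow_prime_le` applied to
`X.subgroupOf X'`; `d = p ^ k`, `|X| = p ^ j`, `p ^ k ∣ |X'|`).  So `X < Q < X'` by cardinalities.
`hA Q (Q ≤ X' ≤ R ≤ S) hcard` gives `P` with `P`, `Q ⊔ P`, `Q ⊓ P` strongly closed;
`P` is normalized by `S` (`Helper25.Solv.normal_of_stronglyClosed`), `X` is normalized by `R`.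
 (1) `(Q ⊓ P) ⊔ X ∈ L` [`R ⊓ (Q ⊓ P) = Q ⊓ P` by `hsc`], it lies between `X` and `Q < X'`, so `= X` by `hcov`:
     `Q ⊓ P ≤ X`.
 (2) `X' ⊓ (R ⊓ (Q ⊔ P)) ∈ L` lies between `X` and `X'` and contains `Q ≠ X`, so `= X'`: `X' ≤ Q ⊔ P`.
 (3) `Z := (X' ⊓ (R ⊓ P)) ⊔ X ∈ L` lies between `X` and `X'`; `hcov`:
   * `Z = X`: `X' ⊓ P ≤ X`.  Every `x ∈ X'` is `x = q * y`, `q ∈ Q`, `y ∈ P` (`Q ⊔ P` = product set since `Q ≤ S`
     normalizes `P`; e.g. `Subgroup.mul_normal`-style after passing to subgroups of `↥S`, or any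
     `mem_sup`-for-normalizing lemma); `y = q⁻¹ x ∈ X' ⊓ P ≤ X ≤ Q`, so `x ∈ Q`: `X' ≤ Q`, contradiction.
   * `Z = X'`: every `q ∈ Q ≤ X'` is `q = y * x`, `y ∈ X' ⊓ P`, `x ∈ X` (`X` normal in `R`); `y = q x⁻¹ ∈ Q ⊓ P ≤ X`
     by (1), so `q ∈ X`: `Q ≤ X`, contradiction.

RECIPE (`exists_card_eq`).  `L` is finite (`Helper25.finite_subgroups_le S`).  Take `X ∈ L` of largest order
subject to `|X| ≤ d` (`⊥ ∈ L`).  If `|X| = d` done.  Otherwise `X ≠ R`; take `X' ∈ L` of least order subject to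
`X < X'` (`R` qualifies).  It covers `X`.  `|X'| ≤ d` contradicts the choice of `X` unless `|X'| = d` (then done),
and `|X| < d < |X'|` contradicts `cover`.
-/

set_option autoImplicit false

namespace Cfsg.Agent.Helper18.WE

open Cfsg Cfsg.FusionSystem Cfsg.Agent.Helper25

variable {Ω : Type*} [Group Ω] {S : Subgroup Ω}

/-- a subgroup of a finite subgroup is finite -/
theorem wecover_finite [Finite S] {H : Subgroup Ω} (h : H ≤ S) : Finite ↥H :=
  Finite.of_injective (Subgroup.inclusion h) (Subgroup.inclusion_injective h)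

/-- a strongly closed subgroup is normalized by `S` -/
theorem wecover_le_normalizer {F : FusionSystem S} {P : Subgroup Ω} (hP : F.StronglyClosed P) :
    S ≤ Subgroup.normalizer (P : Set Ω) := by
  have hn := Cfsg.Agent.Helper25.Solv.normal_of_stronglyClosed hP
  have key : ∀ s ∈ S, ∀ y ∈ P, s * y * s⁻¹ ∈ P := by
    intro s hs y hy
    have h1 := hn.conj_mem ⟨y, hP.1 hy⟩ (Subgroup.mem_subgroupOf.2 hy) ⟨s, hs⟩
    exact Subgroup.mem_subgroupOf.1 h1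
  intro s hs
  rw [Subgroup.mem_normalizer_iff]
  intro y
  constructor
  · exact key s hs y
  · intro hy
    have h2 := key s⁻¹ (S.inv_mem hs) _ hy
    simpa [mul_assoc] using h2

/-- elementwise form of `H ⊔ N = H N` when `H` normalizes `N` -/
theorem wecover_mem_sup {H N : Subgroup Ω} (hLE : H ≤ Subgroup.normalizer (N : Set Ω)) {x : Ω}
    (hx : x ∈ H ⊔ N) : ∃ a ∈ H, ∃ b ∈ N, a * b = x := by
  have h1 : x ∈ ((H ⊔ N : Subgroup Ω) : Set Ω) := hx
  rw [Subgroup.coe_mul_of_left_le_normalizer_right H N hLE] at h1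
  exact Set.mem_mul.1 h1

/-- in a finite `p`-group there is a subgroup of every intermediate `p`-power order between two subgroups -/
theorem wecover_exists_between [Finite S] (p : ℕ) [Fact p.Prime] (hS : IsPGroup p S) {X X' : Subgroup Ω}
    (hX' : X' ≤ S) (hle : X ≤ X') {d : ℕ} (hd : ∃ k : ℕ, d = p ^ k) (h1 : Nat.card X < d)
    (h2 : d < Nat.card X') : ∃ Q : Subgroup Ω, X ≤ Q ∧ Q ≤ X' ∧ Nat.card Q = d := by
  have hp : p.Prime := Fact.out
  have hfin' : Finite ↥X' := wecover_finite hX'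
  have hfin : Finite ↥X := wecover_finite (hle.trans hX')
  obtain ⟨k, rfl⟩ := hd
  obtain ⟨j, hj⟩ := (hS.to_le (hle.trans hX')).exists_card_eq
  obtain ⟨l, hl⟩ := (hS.to_le hX').exists_card_eq
  rw [hj] at h1
  rw [hl] at h2
  have hjk : j < k := (Nat.pow_lt_pow_iff_right hp.one_lt).1 h1
  have hkl : k < l := (Nat.pow_lt_pow_iff_right hp.one_lt).1 h2
  have hc : Nat.card (X.subgroupOf X') = p ^ j := by
    rw [← hj]
    exact Nat.card_congr (Subgroup.subgroupOfEquivOfLe hle).toEquiv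
  obtain ⟨K, hK1, hK2⟩ := Sylow.exists_subgroup_card_pow_prime_le (G := ↥X') p
    (by rw [hl]; exact pow_dvd_pow p hkl.le) (X.subgroupOf X') hc hjk.le
  refine ⟨K.map X'.subtype, ?_, Subgroup.map_subtype_le K, ?_⟩
  · intro x hx
    exact ⟨⟨x, hle hx⟩, hK2 (Subgroup.mem_subgroupOf.2 hx), rfl⟩
  · rw [Subgroup.card_map_of_injective (Subgroup.subtype_injective _), hK1]

theorem cover [Finite S] (p : ℕ) [Fact p.Prime] (hS : IsPGroup p S) (F : FusionSystem S) {d : ℕ}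
    (hd : ∃ k : ℕ, d = p ^ k) (hA : HypA F d) {R : Subgroup Ω} (hR : R ≤ S) (L : Set (Subgroup Ω))
    (hsup : ∀ X ∈ L, ∀ Y ∈ L, X ⊔ Y ∈ L) (hinf : ∀ X ∈ L, ∀ Y ∈ L, X ⊓ Y ∈ L)
    (hnorm : ∀ X ∈ L, X ≤ R ∧ R ≤ Subgroup.normalizer (X : Set Ω))
    (hsc : ∀ P : Subgroup Ω, F.StronglyClosed P → R ⊓ P ∈ L)
    {X X' : Subgroup Ω} (hX : X ∈ L) (hX' : X' ∈ L) (hle : X ≤ X')
    (hcov : ∀ Z ∈ L, X ≤ Z → Z ≤ X' → Z = X ∨ Z = X') :
    ¬ (Nat.card X < d ∧ d < Nat.card X') := by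
  rintro ⟨h1, h2⟩
  have hX'R : X' ≤ R := (hnorm X' hX').1
  have hX'S : X' ≤ S := hX'R.trans hR
  obtain ⟨Q, hXQ, hQX', hQd⟩ := wecover_exists_between p hS hX'S hle hd h1 h2
  have hfinQ : Finite ↥Q := wecover_finite (hQX'.trans hX'S)
  have hfinX' : Finite ↥X' := wecover_finite hX'S
  -- `X' ≤ Q` and `Q ≤ X` are impossible
  have hnot1 : ¬ X' ≤ Q := by
    intro h
    have := Subgroup.card_le_of_le h
    omega
  have hnot2 : ¬ Q ≤ X := by
    intro h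
    have hfinX : Finite ↥X := wecover_finite (hle.trans hX'S)
    have := Subgroup.card_le_of_le h
    omega
  obtain ⟨P, hP, hQP, hQiP⟩ := hA Q (hQX'.trans hX'S) hQd
  have hSP : S ≤ Subgroup.normalizer (P : Set Ω) := wecover_le_normalizer hP
  have hRX : R ≤ Subgroup.normalizer (X : Set Ω) := (hnorm X hX).2
  -- (1) `Q ⊓ P ≤ X`
  have hs1 : Q ⊓ P ≤ X := by
    have hmem : (Q ⊓ P) ⊔ X ∈ L := by
      have h3 : R ⊓ (Q ⊓ P) ∈ L := hsc _ hQiP
      have h4 : R ⊓ (Q ⊓ P) = Q ⊓ P := inf_eq_right.2 (inf_le_left.trans (hQX'.trans hX'R))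
      rw [h4] at h3
      exact hsup _ h3 _ hX
    have hleQ : (Q ⊓ P) ⊔ X ≤ Q := sup_le inf_le_left hXQ
    rcases hcov _ hmem le_sup_right (hleQ.trans hQX') with h | h
    · rw [← h]
      exact le_sup_left
    · exact absurd (h ▸ hleQ) hnot1
  -- (2) `X' ≤ Q ⊔ P`
  have hs2 : X' ≤ Q ⊔ P := by
    have hmem : X' ⊓ (R ⊓ (Q ⊔ P)) ∈ L := hinf _ hX' _ (hsc _ hQP)
    have hXle : X ≤ X' ⊓ (R ⊓ (Q ⊔ P)) :=
      le_inf hle (le_inf (hle.trans hX'R) (hXQ.trans le_sup_left))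
    have hQle : Q ≤ X' ⊓ (R ⊓ (Q ⊔ P)) :=
      le_inf hQX' (le_inf (hQX'.trans hX'R) le_sup_left)
    rcases hcov _ hmem hXle inf_le_left with h | h
    · exact absurd (h ▸ hQle) hnot2
    · calc X' = X' ⊓ (R ⊓ (Q ⊔ P)) := h.symm
        _ ≤ Q ⊔ P := inf_le_right.trans inf_le_right
  -- (3)
  have hmem : (X' ⊓ (R ⊓ P)) ⊔ X ∈ L := hsup _ (hinf _ hX' _ (hsc _ hP)) _ hX
  rcases hcov _ hmem le_sup_right (sup_le inf_le_left hle) with h | h
  · -- `X' ⊓ P ≤ X`, so `X' ≤ Q`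
    apply hnot1
    intro x hx
    obtain ⟨q, hq, y, hy, rfl⟩ := wecover_mem_sup ((hQX'.trans hX'S).trans hSP) (hs2 hx)
    have hyX' : y ∈ X' := by
      have h5 : q⁻¹ * (q * y) ∈ X' := X'.mul_mem (X'.inv_mem (hQX' hq)) hx
      rwa [inv_mul_cancel_left] at h5
    have hyX : y ∈ X := by
      rw [← h]
      exact Subgroup.mem_sup_left ⟨hyX', hX'R hyX', hy⟩
    exact Q.mul_mem hq (hXQ hyX)
  · -- `Q ≤ X`
    apply hnot2
    intro q hq
    have hq' : q ∈ (X' ⊓ (R ⊓ P)) ⊔ X := by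
      rw [h]
      exact hQX' hq
    obtain ⟨y, hy, x, hx, rfl⟩ :=
      wecover_mem_sup ((inf_le_right.trans inf_le_left).trans hRX) hq'
    have hyQ : y ∈ Q := by
      have h5 : y * x * x⁻¹ ∈ Q := Q.mul_mem hq (Q.inv_mem (hXQ hx))
      rwa [mul_inv_cancel_right] at h5
    exact X.mul_mem (hs1 ⟨hyQ, hy.2.2⟩) hx

theorem exists_card_eq [Finite S] (p : ℕ) [Fact p.Prime] (hS : IsPGroup p S) (F : FusionSystem S) {d : ℕ}
    (hd : ∃ k : ℕ, d = p ^ k) (hA : HypA F d) {R : Subgroup Ω} (hR : R ≤ S) (L : Set (Subgroup Ω))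
    (hsup : ∀ X ∈ L, ∀ Y ∈ L, X ⊔ Y ∈ L) (hinf : ∀ X ∈ L, ∀ Y ∈ L, X ⊓ Y ∈ L)
    (hnorm : ∀ X ∈ L, X ≤ R ∧ R ≤ Subgroup.normalizer (X : Set Ω))
    (hsc : ∀ P : Subgroup Ω, F.StronglyClosed P → R ⊓ P ∈ L)
    (hbot : ⊥ ∈ L) (htop : R ∈ L) (hdR : d ≤ Nat.card R) :
    ∃ H ∈ L, Nat.card H = d := by
  have hp : p.Prime := Fact.out
  have hLfin : L.Finite :=
    (Cfsg.Agent.Helper25.finite_subgroups_le S).subset fun X hX => ((hnorm X hX).1.trans hR)
  have hd1 : 1 ≤ d := by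
    obtain ⟨k, rfl⟩ := hd
    exact Nat.one_le_pow _ _ hp.pos
  -- `X ∈ L` of largest order `≤ d`
  obtain ⟨X, ⟨hXL, hXd⟩, hXmax⟩ := Set.exists_max_image {Y | Y ∈ L ∧ Nat.card Y ≤ d}
    (fun Y : Subgroup Ω => Nat.card Y) (hLfin.subset fun Y hY => hY.1)
    ⟨⊥, hbot, by rw [Subgroup.card_bot]; exact hd1⟩
  rcases Nat.lt_or_ge (Nat.card X) d with hlt | hge
  swap
  · exact ⟨X, hXL, le_antisymm hXd hge⟩
  have hfinR : Finite ↥R := wecover_finite hR
  have hXR : X ≤ R := (hnorm X hXL).1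
  have hXltR : X < R := by
    refine lt_of_le_of_ne hXR ?_
    rintro rfl
    omega
  -- `X' ∈ L` of least order above `X`
  obtain ⟨X', ⟨hX'L, hXX'⟩, hX'min⟩ := Set.exists_min_image {Y | Y ∈ L ∧ X < Y}
    (fun Y : Subgroup Ω => Nat.card Y) (hLfin.subset fun Y hY => hY.1) ⟨R, htop, hXltR⟩
  have hfinX' : Finite ↥X' := wecover_finite ((hnorm X' hX'L).1.trans hR)
  have hcov : ∀ Z ∈ L, X ≤ Z → Z ≤ X' → Z = X ∨ Z = X' := by
    intro Z hZL hXZ hZX'
    by_cases hZX : Z = X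
    · exact Or.inl hZX
    · right
      have h1 : X < Z := lt_of_le_of_ne hXZ (Ne.symm hZX)
      exact Subgroup.eq_of_le_of_card_ge hZX' (hX'min Z ⟨hZL, h1⟩)
  have hcardlt : Nat.card X < Nat.card X' := by
    rcases Nat.lt_or_ge (Nat.card X) (Nat.card X') with h | h
    · exact h
    · exact absurd (Subgroup.eq_of_le_of_card_ge hXX'.le h) (ne_of_lt hXX')
  rcases Nat.lt_or_ge d (Nat.card X') with h | h
  · exact absurd ⟨hlt, h⟩ (cover p hS F hd hA hR L hsup hinf hnorm hsc hXL hX'L hXX'.le hcov)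
  · have := hXmax X' ⟨hX'L, h⟩
    omega

end Cfsg.Agent.Helper18.WE
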