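import Mathlib
import Cfsg.Agent.Lib.WE.WEDefs
import Cfsg.Agent.Lib.WE.WECover
import Cfsg.Agent.Lib.Helper25.FusionSolv
import Cfsg.Agent.Lib.Helper25.FusionInvariant
import Cfsg.Agent.Lib.Helper25.Fusion

/-!
# S5271 piece WE-STEP1A: an `α`-invariant normal subgroup of order `d` in `R` (`|R| ≥ d`)

RECIPE.  Apply `exists_card_eq` (WE-COVER, by statement) with the given `R` and
`L = {X | X ≤ R ∧ R ≤ normalizer X ∧ ∀ x : R, (x : Ω) ∈ X → ((α x : R) : Ω) ∈ X}`.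
`hsup`: `X ⊔ Y ≤ R`, normalized by `R` (`g ∈ normalizer X ⊓ normalizer Y → g ∈ normalizer (X ⊔ Y)`, e.g. `Helper25.normalizer_sup_mem` in
`KNorm5`, or by `Subgroup.closure_induction`), and `α`-invariance: `X ⊔ Y = closure (X ∪ Y)`; the set
`{z : Ω | ∀ h : z ∈ R, ((α ⟨z,h⟩ : R) : Ω) ∈ X ⊔ Y}` intersected with `R`... simplest: show `(X ⊔ Y).subgroupOf R ≤ ((X ⊔ Y).subgroupOf R).comap α.toMonoidHom`
via `Subgroup.subgroupOf_sup`-type rewriting / `sup_le` after proving `X.subgroupOf R ≤ comap` and `Y.subgroupOf R ≤ comap`.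
`hinf` is immediate.  `hsc`: `R ⊓ P` is normalized by `R` (`P` is normalized by `S ≥ R`: `Helper25.Solv.normal_of_stronglyClosed`, or
`Helper25.mem_normalizer_of_stronglyClosed`), and for `x ∈ R ⊓ P`, `α x ∈ P` by strong closure of `P` applied to the restriction of
`R.subtype ∘ α` to `R ⊓ P` (`Helper25.restrict_mem F inf_le_left hα`, then `hP.2 _ inf_le_right _ this ⟨x, _⟩`).  `⊥ ∈ L`, `R ∈ L` are clear.
-/

set_option autoImplicit false

namespace Cfsg.Agent.Helper18.WE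

open Cfsg Cfsg.FusionSystem Cfsg.Agent.Helper25 Cfsg.Agent.Helper3.KL

variable {Ω : Type*} [Group Ω] {S : Subgroup Ω}

theorem westep1a_normalizer_sup {A B : Subgroup Ω} {g : Ω}
    (hA : g ∈ Subgroup.normalizer (A : Set Ω)) (hB : g ∈ Subgroup.normalizer (B : Set Ω)) :
    g ∈ Subgroup.normalizer ((A ⊔ B : Subgroup Ω) : Set Ω) := by
  have key : ∀ {C D : Subgroup Ω} {k : Ω}, k ∈ Subgroup.normalizer (C : Set Ω) →
      k ∈ Subgroup.normalizer (D : Set Ω) → ∀ h ∈ C ⊔ D, k * h * k⁻¹ ∈ C ⊔ D := by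
    intro C D k hC hD h hh
    have hle : C ⊔ D ≤ (C ⊔ D).comap (MulAut.conj k).toMonoidHom := by
      apply sup_le
      · intro c hc
        exact (le_sup_left : C ≤ C ⊔ D) ((Subgroup.mem_normalizer_iff.1 hC c).1 hc)
      · intro c hc
        exact (le_sup_right : D ≤ C ⊔ D) ((Subgroup.mem_normalizer_iff.1 hD c).1 hc)
    exact hle hh
  rw [Subgroup.mem_normalizer_iff]
  intro h
  constructor
  · exact key hA hB h
  · intro hh
    have := key (Subgroup.inv_mem _ hA) (Subgroup.inv_mem _ hB) _ hh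
    have e : g⁻¹ * (g * h * g⁻¹) * g⁻¹⁻¹ = h := by group
    rwa [e] at this

theorem westep1a_normalizer_inf {A B : Subgroup Ω} {g : Ω}
    (hA : g ∈ Subgroup.normalizer (A : Set Ω)) (hB : g ∈ Subgroup.normalizer (B : Set Ω)) :
    g ∈ Subgroup.normalizer ((A ⊓ B : Subgroup Ω) : Set Ω) := by
  rw [Subgroup.mem_normalizer_iff]
  intro h
  rw [Subgroup.mem_inf, Subgroup.mem_inf, Subgroup.mem_normalizer_iff.1 hA h,
    Subgroup.mem_normalizer_iff.1 hB h]

theorem exists_invariant [Finite S] (p : ℕ) [Fact p.Prime] (hS : IsPGroup p S) (F : FusionSystem S)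
    {d : ℕ} (hd : ∃ k : ℕ, d = p ^ k) (hA : HypA F d) {R : Subgroup Ω} (hR : R ≤ S)
    (hdR : d ≤ Nat.card R) (α : MulAut R) (hα : R.subtype.comp α.toMonoidHom ∈ F.Hom R) :
    ∃ H : Subgroup Ω, H ≤ R ∧ R ≤ Subgroup.normalizer (H : Set Ω) ∧ Nat.card H = d ∧
      ∀ x : R, (x : Ω) ∈ H → ((α x : R) : Ω) ∈ H := by
  obtain ⟨H, hHL, hcard⟩ := exists_card_eq p hS F hd hA hR
    {X | X ≤ R ∧ R ≤ Subgroup.normalizer (X : Set Ω) ∧
      ∀ x : R, (x : Ω) ∈ X → ((α x : R) : Ω) ∈ X}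
    (by
      rintro X ⟨hX1, hX2, hX3⟩ Y ⟨hY1, hY2, hY3⟩
      refine ⟨sup_le hX1 hY1, fun g hg => westep1a_normalizer_sup (hX2 hg) (hY2 hg), ?_⟩
      have hle : (X ⊔ Y).subgroupOf R ≤ (X ⊔ Y).comap (R.subtype.comp α.toMonoidHom) := by
        rw [Subgroup.subgroupOf_sup hX1 hY1]
        apply sup_le
        · intro x hx
          exact (le_sup_left : X ≤ X ⊔ Y) (hX3 x (Subgroup.mem_subgroupOf.1 hx))
        · intro x hx
          exact (le_sup_right : Y ≤ X ⊔ Y) (hY3 x (Subgroup.mem_subgroupOf.1 hx))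
      intro x hx
      exact hle (Subgroup.mem_subgroupOf.2 hx))
    (by
      rintro X ⟨hX1, hX2, hX3⟩ Y ⟨hY1, hY2, hY3⟩
      refine ⟨inf_le_left.trans hX1, fun g hg => westep1a_normalizer_inf (hX2 hg) (hY2 hg), ?_⟩
      intro x hx
      exact ⟨hX3 x hx.1, hY3 x hx.2⟩)
    (fun X hX => ⟨hX.1, hX.2.1⟩)
    (by
      intro P hP
      refine ⟨inf_le_left, ?_, ?_⟩
      · intro g hg
        exact westep1a_normalizer_inf (Subgroup.le_normalizer hg)
          (mem_normalizer_of_stronglyClosed hP (hR hg))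
      · intro x hx
        refine ⟨(α x).2, ?_⟩
        have h1 := restrict_mem F (inf_le_left : R ⊓ P ≤ R) hα
        have h2 := hP.2 (R ⊓ P) inf_le_right _ h1 ⟨(x : Ω), ⟨x.2, hx.2⟩⟩
        exact h2)
    (by
      refine ⟨bot_le, ?_, ?_⟩
      · intro g _
        rw [Subgroup.mem_normalizer_iff]
        intro h
        simp [Subgroup.mem_bot]
      · intro x hx
        rw [Subgroup.mem_bot] at hx ⊢
        have hx1 : x = 1 := Subtype.ext hx
        rw [hx1, map_one]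
        rfl)
    ⟨le_rfl, Subgroup.le_normalizer, fun x _ => (α x).2⟩ hdR
  exact ⟨H, hHL.1, hHL.2.1, hcard, hHL.2.2⟩

end Cfsg.Agent.Helper18.WE
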