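import Mathlib
import Cfsg.Agent.Lib.WE.WEDefs
import Cfsg.Agent.Lib.Helper25.FusionSat4
import Cfsg.Agent.Lib.Helper25.FusionSat3
import Cfsg.Agent.Lib.Helper25.FusionRecept
import Cfsg.Agent.S5096

/-!
# S5271 piece WE-STEP1B: an automorphism normalizing a subgroup of order `d` has `p`-power order (uses hypothesis (b))

RECIPE.  `H ≤ R ≤ N_S(H)`, `|H| = d`, `α(H) ⊆ H` (hence `= H`: finite + injective).
`Helper25.exists_isConj_fullyNormalized F (H ≤ S)` gives `H'` fully normalized with `F.IsConj H H'`;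
`Helper25.of_fullyNormalized p hS F hF hH'` gives fully automized + receptive;
`Helper25.exists_normalizer_map p hS F H' H h₁ h₂ hconj` gives `φ ∈ F.Hom (normalizerIn S H)` with values in `N_S(H')` and `φ(H) = H'`.
`|H'| = d` (`φ` injective: `F.injective_of_mem`).  `Cfsg.Agent.S5096.result F H' hH'.1` gives a normalizer system `N` of `H'`, inner by `hB`.
Let `R' = φ(R)` (`(R.subgroupOf (normalizerIn S H)).map φ`), so `H' ≤ R' ≤ N_S(H')`.  The map `α' : R' →* Ω`, `α'(φ r) = φ(α r)` is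
`φ|_R ∘ α ∘ (φ|_R)⁻¹`, a map of `F` (`Helper25.exists_inv`, `Helper25.comp_mem'`, `Helper25.restrict_mem`); it lies in `F.normalizerHom H' R'`
(the extension to `R' ⊔ H' = R'` is itself, transported with `Helper25.hom_transport`; it maps `H'` onto `H'`).  So `α' ∈ N.Hom R'`
(`hN R'`) and `IsInner N` gives `g ∈ N_S(H') ≤ S` with `φ(α r) = g φ(r) g⁻¹` for all `r ∈ R`.  By induction `φ(α^n r) = g^n φ(r) g^{-n}`;
`g ^ p ^ k = 1` (`hS`), `φ` injective: `α ^ p ^ k = 1`.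
-/

set_option autoImplicit false

namespace Cfsg.Agent.Helper18.WE

open Cfsg Cfsg.FusionSystem Cfsg.Agent.Helper25 Cfsg.Agent.Helper3.KL

variable {Ω : Type*} [Group Ω] {S : Subgroup Ω}

/-- an injective self-map of the finite set `H ∩ R` is onto -/
theorem s1b_surj [Finite S] {R H : Subgroup Ω} (hR : R ≤ S) (α : MulAut R)
    (hinv : ∀ x : R, (x : Ω) ∈ H → ((α x : R) : Ω) ∈ H) :
    ∀ y : R, (y : Ω) ∈ H → ∃ x : R, (x : Ω) ∈ H ∧ α x = y := by
  have : Finite R := finite_of_le_finite hR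
  let f : {x : R // (x : Ω) ∈ H} → {x : R // (x : Ω) ∈ H} := fun x => ⟨α x.1, hinv x.1 x.2⟩
  have hf : Function.Injective f := by
    intro a b hab
    have h1 : α a.1 = α b.1 := congrArg Subtype.val hab
    exact Subtype.ext (α.injective h1)
  have hs := Finite.surjective_of_injective hf
  intro y hy
  obtain ⟨x, hx⟩ := hs ⟨y, hy⟩
  exact ⟨x.1, x.2, congrArg Subtype.val hx⟩

/-- the key transport: some `g ∈ S` and an injective `φ` on `R` with `φ (α r) = g φ(r) g⁻¹` -/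
theorem s1b_key [Finite S] (p : ℕ) [Fact p.Prime] (hS : IsPGroup p S) (F : FusionSystem S)
    (hF : F.IsSaturated p) {d : ℕ} (hB : HypB F d) {R : Subgroup Ω} (hR : R ≤ S)
    (α : MulAut R) (hα : R.subtype.comp α.toMonoidHom ∈ F.Hom R)
    {H : Subgroup Ω} (hHR : H ≤ R) (hRN : R ≤ Subgroup.normalizer (H : Set Ω)) (hcard : Nat.card H = d)
    (hinv : ∀ x : R, (x : Ω) ∈ H → ((α x : R) : Ω) ∈ H) :
    ∃ (φ : R →* Ω) (g : Ω), Function.Injective φ ∧ g ∈ S ∧ ∀ r : R, φ (α r) = g * φ r * g⁻¹ := by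
  have hHS : H ≤ S := hHR.trans hR
  obtain ⟨H', hconj, hH'⟩ := exists_isConj_fullyNormalized F hHS
  obtain ⟨-, hfa, hrec⟩ := of_fullyNormalized p hS F hF hH'
  obtain ⟨φ, hφ, hφN, hφH, hφimg⟩ := exists_normalizer_map p hS F H' H hfa hrec hconj
  have hφinj := F.injective_of_mem hφ
  have hRNS : R ≤ normalizerIn S H := fun x hx => ⟨hR hx, hRN hx⟩
  have hHNS : H ≤ normalizerIn S H := hHR.trans hRNS
  -- the restriction of `φ` to `R`
  obtain ⟨φR, hφR_def⟩ : ∃ f : R →* Ω, f = φ.comp (Subgroup.inclusion hRNS) := ⟨_, rfl⟩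
  have hφR : φR ∈ F.Hom R := by rw [hφR_def]; exact restrict_mem F hRNS hφ
  have hφRinj : Function.Injective φR := F.injective_of_mem hφR
  have hφR_apply : ∀ r : R, φR r = φ ⟨r.1, hRNS r.2⟩ := fun r => by rw [hφR_def]; rfl
  -- card of H'
  have hcard' : Nat.card H' = d := by
    rw [← hcard, ← hφimg]
    have e : (H.subgroupOf (normalizerIn S H)) ≃ ((H.subgroupOf (normalizerIn S H)).map φ) :=
      ((H.subgroupOf (normalizerIn S H)).equivMapOfInjective φ hφinj).toEquiv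
    rw [← Nat.card_congr e]
    exact Nat.card_congr (Subgroup.subgroupOfEquivOfLe hHNS).toEquiv
  obtain ⟨N, hN⟩ := Cfsg.Agent.S5096.result F H' hH'.1
  have hNinner : IsInner N := hB H' hH' hcard' N hN
  -- R' = φ(R)
  obtain ⟨R', hR'_def⟩ : ∃ R' : Subgroup Ω, φR.range = R' := ⟨_, rfl⟩
  have hmemR' : ∀ r : R, φR r ∈ R' := fun r => hR'_def ▸ ⟨r, rfl⟩
  have hR'elim : ∀ y ∈ R', ∃ r : R, φR r = y := by
    intro y hy
    rw [← hR'_def] at hy
    exact hy
  have hR'N : R' ≤ normalizerIn S H' := by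
    intro y hy
    obtain ⟨r, rfl⟩ := hR'elim y hy
    rw [hφR_apply]
    exact hφN _
  have hH'R' : H' ≤ R' := by
    intro y hy
    rw [← hφimg] at hy
    obtain ⟨x, hxN, hxH, rfl⟩ := (mem_map_subgroupOf φ).mp hy
    have := hmemR' ⟨x, hHR hxH⟩
    rwa [hφR_apply] at this
  obtain ⟨ψ, hψ, hψinv, hψrange⟩ := exists_inv F hφR hR'_def
  have hψR : ∀ y : R', ψ y ∈ R := by
    intro y
    have h0 : ψ y ∈ ψ.range := ⟨y, rfl⟩
    rwa [hψrange] at h0
  -- α' = φR ∘ α ∘ ψ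
  obtain ⟨α', hα'_def⟩ : ∃ f : R' →* Ω, f = φR.comp (α.toMonoidHom.comp (ψ.codRestrict R hψR)) :=
    ⟨_, rfl⟩
  have hα'_apply : ∀ r : R, α' ⟨φR r, hmemR' r⟩ = φR (α r) := by
    intro r
    have h1 : (ψ.codRestrict R hψR) ⟨φR r, hmemR' r⟩ = r := Subtype.ext (hψinv r (hmemR' r))
    rw [hα'_def]
    show φR (α ((ψ.codRestrict R hψR) ⟨φR r, hmemR' r⟩)) = φR (α r)
    rw [h1]
  have hχ1 : (R.subtype.comp α.toMonoidHom).comp (ψ.codRestrict R hψR) ∈ F.Hom R' :=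
    comp_mem' F hψ hα hψR (fun x => rfl)
  have hχ1R : ∀ x : R', ((R.subtype.comp α.toMonoidHom).comp (ψ.codRestrict R hψR)) x ∈ R :=
    fun x => (α ((ψ.codRestrict R hψR) x)).2
  have hα' : α' ∈ F.Hom R' := by
    rw [hα'_def]
    exact comp_mem' F hχ1 hφR hχ1R (fun x => rfl)
  -- every element of R' is some φR r
  have hR'sub : ∀ y : R', ∃ r : R, y = ⟨φR r, hmemR' r⟩ := by
    intro y
    obtain ⟨r, hr⟩ := hR'elim y.1 y.2
    exact ⟨r, Subtype.ext hr.symm⟩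
  -- membership in H' pulled back along φR
  have hH'pull : ∀ r : R, φR r ∈ H' → (r : Ω) ∈ H := by
    intro r hy
    rw [← hφimg] at hy
    obtain ⟨x, hxN, hxH, hxe⟩ := (mem_map_subgroupOf φ).mp hy
    rw [hφR_apply] at hxe
    have h1 : (⟨x, hxN⟩ : normalizerIn S H) = ⟨r.1, hRNS r.2⟩ := hφinj hxe
    have h2 : x = r.1 := congrArg Subtype.val h1
    rw [← h2]; exact hxH
  have hH'push : ∀ r : R, (r : Ω) ∈ H → φR r ∈ H' := by
    intro r hr
    rw [← hφimg, hφR_apply]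
    exact (mem_map_subgroupOf φ).mpr ⟨r.1, hRNS r.2, hr, rfl⟩
  -- α' maps H' onto H'
  have hsurj := s1b_surj hR α hinv
  have hα'H' : ∀ y : R', (y : Ω) ∈ H' → α' y ∈ H' := by
    intro y hy
    obtain ⟨r, rfl⟩ := hR'sub y
    rw [hα'_apply]
    exact hH'push _ (hinv r (hH'pull r hy))
  have hα'H'surj : ∀ z ∈ H', ∃ y : R', (y : Ω) ∈ H' ∧ α' y = z := by
    intro z hz
    obtain ⟨r, hr⟩ := hR'elim z (hH'R' hz)
    subst hr
    obtain ⟨w, hwH, hwx⟩ := hsurj r (hH'pull r hz)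
    refine ⟨⟨φR w, hmemR' w⟩, hH'push w hwH, ?_⟩
    rw [hα'_apply, hwx]
  -- α' ∈ normalizerHom H' R'
  have hsupeq : R' ⊔ H' = R' := sup_eq_left.mpr hH'R'
  have hmem : α' ∈ F.normalizerHom H' R' := by
    refine ⟨hα', hR'N, ?_, α'.comp (Subgroup.inclusion hsupeq.le), hom_transport F hsupeq hα', ?_, ?_⟩
    · intro y
      obtain ⟨r, rfl⟩ := hR'sub y
      rw [hα'_apply, hφR_apply]
      exact hφN _
    · intro x
      rfl
    · ext z
      rw [mem_map_subgroupOf]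
      constructor
      · rintro ⟨x, hxK, hxH', rfl⟩
        exact hα'H' ⟨x, hsupeq.le hxK⟩ hxH'
      · intro hz
        obtain ⟨y, hyH', hyz⟩ := hα'H'surj z hz
        exact ⟨y.1, le_sup_left (b := H') y.2, hyH', hyz⟩
  have hmemN : α' ∈ N.Hom R' := by
    rw [hN R']; exact hmem
  obtain ⟨g, hgN, hg⟩ := hNinner R' α' hmemN
  refine ⟨φR, g, hφRinj, hgN.1, fun r => ?_⟩
  have := hg ⟨φR r, hmemR' r⟩
  rw [hα'_apply] at this
  exact this

theorem pow_of_invariant [Finite S] (p : ℕ) [Fact p.Prime] (hS : IsPGroup p S) (F : FusionSystem S)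
    (hF : F.IsSaturated p) {d : ℕ} (hB : HypB F d) {R : Subgroup Ω} (hR : R ≤ S)
    (α : MulAut R) (hα : R.subtype.comp α.toMonoidHom ∈ F.Hom R)
    {H : Subgroup Ω} (hHR : H ≤ R) (hRN : R ≤ Subgroup.normalizer (H : Set Ω)) (hcard : Nat.card H = d)
    (hinv : ∀ x : R, (x : Ω) ∈ H → ((α x : R) : Ω) ∈ H) :
    ∃ k : ℕ, α ^ p ^ k = 1 := by
  obtain ⟨φ, g, hφinj, hgS, hg⟩ := s1b_key p hS F hF hB hR α hα hHR hRN hcard hinv
  have hpow : ∀ n : ℕ, ∀ r : R, φ ((α ^ n) r) = g ^ n * φ r * (g ^ n)⁻¹ := by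
    intro n
    induction n with
    | zero => intro r; simp
    | succ n ih =>
      intro r
      rw [pow_succ', MulAut.mul_apply, hg, ih, pow_succ']
      group
  obtain ⟨k, hk⟩ := hS ⟨g, hgS⟩
  have hk' : g ^ p ^ k = 1 := by
    have := congrArg Subtype.val hk
    simpa using this
  refine ⟨k, ?_⟩
  ext r
  have := hpow (p ^ k) r
  rw [hk'] at this
  simp only [one_mul, inv_one, mul_one] at this
  have h2 := hφinj this
  rw [h2]
  rfl

end Cfsg.Agent.Helper18.WE
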