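import Mathlib
import Cfsg.Agent.Lib.WE.WEDefs
import Cfsg.Agent.Lib.WE.WEStep1A
import Cfsg.Agent.Lib.WE.WEStep1B

/-!
# S5271: automorphisms of subgroups of order `≥ d` have `p`-power order (assembly of WE-STEP1A + WE-STEP1B; nothing to prove here)
-/

set_option autoImplicit false

namespace Cfsg.Agent.Helper18.WE

open Cfsg Cfsg.FusionSystem Cfsg.Agent.Helper25 Cfsg.Agent.Helper3.KL

variable {Ω : Type*} [Group Ω] {S : Subgroup Ω}

theorem aut_pow_of_card_ge [Finite S] (p : ℕ) [Fact p.Prime] (hS : IsPGroup p S) (F : FusionSystem S)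
    (hF : F.IsSaturated p) {d : ℕ} (hd : ∃ k : ℕ, d = p ^ k) (hA : HypA F d) (hB : HypB F d)
    {R : Subgroup Ω} (hR : R ≤ S) (hdR : d ≤ Nat.card R) (α : MulAut R)
    (hα : R.subtype.comp α.toMonoidHom ∈ F.Hom R) : ∃ k : ℕ, α ^ p ^ k = 1 := by
  obtain ⟨H, hHR, hRN, hcard, hinv⟩ := exists_invariant p hS F hd hA hR hdR α hα
  exact pow_of_invariant p hS F hF hB hR α hα hHR hRN hcard hinv

end Cfsg.Agent.Helper18.WE
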