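import Mathlib
import Cfsg.Agent.Lib.WE.WEDefs
import Cfsg.Agent.Lib.WE.WEStep1
import Cfsg.Agent.Lib.Helper25.FusionAlperin2
import Cfsg.Agent.Lib.Helper25.StronglyEmbedded
import Cfsg.Agent.Lib.Helper25.FusionInner

/-!
# S5271 piece WE-CONJ: every map on a subgroup of order `≥ d` is conjugation by an element of `S`

`Helper25.alperin_induction p hS F hF Pr ...` with
`Pr P φ := d ≤ Nat.card P → ∃ g ∈ S, ∀ x : P, φ x = g * x * g⁻¹`.
* `hconj`: the element itself.  `hcomp`: `|Q| ≥ |P|` because `φ.codRestrict` is injective into `Q`, multiply the two elements.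
  `hinv`: the inverse element; `|φ.range| = |P|`.
* `haut` for `P = S`: all of `Aut_F(S)` has `p`-power order by `aut_pow_of_card_ge`, so `IsPGroup p (F.autGroup S)`;
  fully automized gives `α ∈ autInducedBy S S`.
* `haut` for `P` essential with `d ≤ |P|`: contradiction, the outer automorphism group is a `p`-group with a strongly
  `p`-embedded subgroup.
-/

set_option autoImplicit false

namespace Cfsg.Agent.Helper18.WE

open Cfsg Cfsg.FusionSystem Cfsg.Agent.Helper25 Cfsg.Agent.Helper3.KL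

variable {Ω : Type*} [Group Ω] {S : Subgroup Ω}

/-- all of `Aut_F(P)` is a `p`-group when `d ≤ |P|` -/
theorem weconj_isPGroup_autGroup [Finite S] (p : ℕ) [Fact p.Prime] (hS : IsPGroup p S)
    (F : FusionSystem S)
    (hF : F.IsSaturated p) {d : ℕ} (hd : ∃ k : ℕ, d = p ^ k) (hA : HypA F d) (hB : HypB F d)
    {P : Subgroup Ω} (hP : P ≤ S) (hdP : d ≤ Nat.card P) : IsPGroup p (F.autGroup P) := by
  intro β
  have hβ := (mem_autGroup_iff F hP (β : MulAut P)).mp β.2
  obtain ⟨k, hk⟩ := aut_pow_of_card_ge p hS F hF hd hA hB hP hdP (β : MulAut P) hβ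
  refine ⟨k, ?_⟩
  apply Subtype.ext
  rw [SubgroupClass.coe_pow, hk]
  rfl

theorem conjGE [Finite S] (p : ℕ) [Fact p.Prime] (hS : IsPGroup p S) (F : FusionSystem S)
    (hF : F.IsSaturated p) {d : ℕ} (hd : ∃ k : ℕ, d = p ^ k) (hA : HypA F d) (hB : HypB F d) :
    ConjGE F d := by
  intro K ψ hψ hdK
  refine alperin_induction p hS F hF
    (fun P φ => d ≤ Nat.card P → ∃ g ∈ S, ∀ x : P, φ x = g * (x : Ω) * g⁻¹)
    ?_ ?_ ?_ ?_ hψ hdK
  · -- hconj
    intro P g _ hg _
    exact ⟨g, hg, fun x => rfl⟩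
  · -- hcomp
    intro P Q φ ψ' hφ hψ' hPφ hQψ h hdP
    obtain ⟨g1, hg1, e1⟩ := hPφ hdP
    have hQS : Q ≤ S := (F.le_of_mem hψ').1
    haveI : Finite Q := Finite.of_injective (Subgroup.inclusion hQS) (Subgroup.inclusion_injective hQS)
    have hinj : Function.Injective (φ.codRestrict Q h) := by
      intro a b hab
      apply F.injective_of_mem hφ
      exact congrArg Subtype.val hab
    have hdQ : d ≤ Nat.card Q := le_trans hdP (Nat.card_le_card_of_injective _ hinj)
    obtain ⟨g2, hg2, e2⟩ := hQψ hdQ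
    refine ⟨g2 * g1, S.mul_mem hg2 hg1, ?_⟩
    intro x
    have h3 : (ψ'.comp (φ.codRestrict Q h)) x = ψ' ⟨φ x, h x⟩ := rfl
    rw [h3, e2 ⟨φ x, h x⟩]
    show g2 * φ x * g2⁻¹ = _
    rw [e1 x, mul_inv_rev]
    simp only [mul_assoc]
  · -- hinv
    intro P φ hφ hPφ ψ' _ hinv hdR
    have hinj := F.injective_of_mem hφ
    have hcard : Nat.card P = Nat.card φ.range :=
      Nat.card_congr (MonoidHom.ofInjective hinj).toEquiv
    obtain ⟨g, hg, e⟩ := hPφ (hcard ▸ hdR)
    refine ⟨g⁻¹, S.inv_mem hg, ?_⟩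
    rintro ⟨y, x, rfl⟩
    rw [hinv x]
    show (x : Ω) = g⁻¹ * φ x * g⁻¹⁻¹
    rw [e x, inv_inv]
    simp only [mul_assoc, inv_mul_cancel_left, inv_mul_cancel, mul_one]
  · -- haut
    intro P hP α hα hdP
    rcases hP with rfl | hP
    · have hp := weconj_isPGroup_autGroup p hS F hF hd hA hB le_rfl hdP
      have hFA := isFullyAutomized_self p F hF
      have heq := autInducedBy_eq_autGroup_of_isPGroup F p hFA hp
      rw [← heq] at hα
      obtain ⟨g, hg, e⟩ := (mem_autInducedBy_iff α).mp hα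
      exact ⟨g, hg, fun x => e x⟩
    · exfalso
      have hPS : P ≤ S := hP.1.1
      have hp := weconj_isPGroup_autGroup p hS F hF hd hA hB hPS hdP
      obtain ⟨-, -, hnorm, E, hE⟩ := hP
      haveI : Finite P :=
        Finite.of_injective (Subgroup.inclusion hPS) (Subgroup.inclusion_injective hPS)
      haveI := hnorm
      have hpq : IsPGroup p (F.autGroup P ⧸ (Inn P).subgroupOf (F.autGroup P)) :=
        hp.to_quotient _
      have htop : IsPGroup p (⊤ : Subgroup (F.autGroup P ⧸ (Inn P).subgroupOf (F.autGroup P))) :=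
        hpq.to_subgroup _
      have hbot := eq_bot_of_normal_of_isStronglyPEmbedded p hE (N := ⊤) htop
      have hcard : Nat.card (F.autGroup P ⧸ (Inn P).subgroupOf (F.autGroup P)) = 1 := by
        rw [← Subgroup.card_top, hbot, Subgroup.card_bot]
      have hdvd := hE.1
      rw [hcard] at hdvd
      exact Nat.Prime.not_dvd_one (Fact.out) hdvd

end Cfsg.Agent.Helper18.WE
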