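import Mathlib
import Cfsg.Agent.Lib.WE.WEDefs
import Cfsg.Agent.Lib.Helper25.FusionSolv

/-!
# S5271 piece WE-DICH: a subgroup of order `≥ d` meeting `Y` nontrivially contains `Y`

RECIPE.  `H ≤ S`, `d ≤ |H|`, `1 ≠ y ∈ H ⊓ Y`.  `zpowers y ≤ Y` has order `≤ |Y| ≤ d` (a power of `p`); `H` is a finite `p`-group: there is
`Q` with `zpowers y ≤ Q ≤ H`, `|Q| = d` (`Sylow.exists_subgroup_card_pow_prime_le` in `↥H`, then `Subgroup.map H.subtype`).  `hA Q` gives `P`.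
If `Q ⊓ P ≠ ⊥`: `Y ≤ Q ⊓ P ≤ Q ≤ H` by `hU`.  If `Q ⊓ P = ⊥`: if `P = ⊥` then `Q ⊔ P = Q` is strongly closed and `≠ ⊥` (contains `y`), so `Y ≤ Q ≤ H`;
if `P ≠ ⊥` then `Y ≤ P` and `y ∈ Q ⊓ P = ⊥`, contradiction.
-/

set_option autoImplicit false

namespace Cfsg.Agent.Helper18.WE

open Cfsg Cfsg.FusionSystem Cfsg.Agent.Helper25 Cfsg.Agent.Helper3.KL

variable {Ω : Type*} [Group Ω] {S : Subgroup Ω}

theorem dichotomy [Finite S] (p : ℕ) [Fact p.Prime] (hS : IsPGroup p S) (F : FusionSystem S) {d : ℕ}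
    (hd : ∃ k : ℕ, d = p ^ k) (hA : HypA F d) {Y : Subgroup Ω} (hYS : Y ≤ S) (hYd : Nat.card Y ≤ d)
    (hU : ∀ P : Subgroup Ω, F.StronglyClosed P → P = ⊥ ∨ Y ≤ P)
    {H : Subgroup Ω} (hH : H ≤ S) (hdH : d ≤ Nat.card H) (hne : H ⊓ Y ≠ ⊥) : Y ≤ H := by
  have hp : p.Prime := Fact.out
  have : Finite ↥H := Finite.of_injective _ (Subgroup.inclusion_injective hH)
  have : Finite ↥Y := Finite.of_injective _ (Subgroup.inclusion_injective hYS)
  obtain ⟨⟨y, hyHY'⟩, hy1'⟩ := (Subgroup.ne_bot_iff_exists_ne_one).mp hne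
  have hyH : y ∈ H := hyHY'.1
  have hyY : y ∈ Y := hyHY'.2
  have hy1 : y ≠ 1 := fun h => hy1' (Subtype.ext h)
  obtain ⟨k, hk⟩ := hd
  have hHp : IsPGroup p ↥H := hS.to_le hH
  obtain ⟨hh, hhH⟩ := IsPGroup.iff_card.mp hHp
  obtain ⟨n, hn⟩ := IsPGroup.iff_card.mp (hHp.to_subgroup (Subgroup.zpowers (⟨y, hyH⟩ : ↥H)))
  have hZY : Nat.card ↥(Subgroup.zpowers (⟨y, hyH⟩ : ↥H)) ≤ Nat.card ↥Y := by
    rw [Nat.card_zpowers, Subgroup.orderOf_mk, ← Nat.card_zpowers]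
    exact Subgroup.card_le_of_le ((Subgroup.zpowers_le).mpr hyY)
  have hnk : n ≤ k := by
    have h1 : p ^ n ≤ p ^ k := by
      rw [← hn, ← hk]
      exact le_trans hZY hYd
    exact (Nat.pow_le_pow_iff_right hp.one_lt).mp h1
  have hkh : k ≤ hh := by
    have h1 : p ^ k ≤ p ^ hh := by
      rw [← hk, ← hhH]
      exact hdH
    exact (Nat.pow_le_pow_iff_right hp.one_lt).mp h1
  have hdvd : p ^ k ∣ Nat.card ↥H := by
    rw [hhH]
    exact pow_dvd_pow p hkh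
  obtain ⟨K, hKcard, hZK⟩ := Sylow.exists_subgroup_card_pow_prime_le p hdvd
    (Subgroup.zpowers (⟨y, hyH⟩ : ↥H)) hn hnk
  have hQcard : Nat.card ↥(K.map H.subtype) = d := by
    rw [hk, ← hKcard]
    exact (Nat.card_congr (Subgroup.equivMapOfInjective K H.subtype
      H.subtype_injective).toEquiv).symm
  have hQH : K.map H.subtype ≤ H := Subgroup.map_subtype_le K
  have hyQ : y ∈ K.map H.subtype :=
    ⟨⟨y, hyH⟩, hZK (Subgroup.mem_zpowers _), rfl⟩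
  obtain ⟨P, hP, hQP, hQiP⟩ := hA (K.map H.subtype) (le_trans hQH hH) hQcard
  by_cases hbot : K.map H.subtype ⊓ P = ⊥
  · rcases hU P hP with hP0 | hYP
    · rw [hP0, sup_bot_eq] at hQP
      rcases hU _ hQP with hQ0 | hYQ
      · exfalso
        rw [hQ0] at hyQ
        exact hy1 (Subgroup.mem_bot.mp hyQ)
      · exact le_trans hYQ hQH
    · exfalso
      have h1 : y ∈ K.map H.subtype ⊓ P := ⟨hyQ, hYP hyY⟩
      rw [hbot] at h1
      exact hy1 (Subgroup.mem_bot.mp h1)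
  · rcases hU _ hQiP with h0 | hY
    · exact absurd h0 hbot
    · exact le_trans hY (le_trans inf_le_left hQH)

end Cfsg.Agent.Helper18.WE
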