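import Mathlib
import Cfsg.Agent.Lib.WE.WEDefs
import Cfsg.Agent.Lib.Helper25.FusionSolv
import Cfsg.Agent.Lib.Helper25.FusionNormal3
import Cfsg.Agent.S5096

/-!
# S5271 piece WE-EASY: the easy direction (`F` inner gives `D`)

RECIPE.  `S` is a finite `p`-group with `p ^ 2 ≤ |S|`: take `D ≤ S` of order `|S| / p` (`Sylow.exists_subgroup_card_pow_prime` in `↥S`, mapped by
`S.subtype`), so `⊥ < D < S`.
(a) `Q ≤ S` with `|Q| = |D|` has index `p` in `S`, hence is normalized by `S` (`Q.subgroupOf S` has index `p`, the smallest prime divisor: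
 `Subgroup.normal_of_index_eq_minFac_card`, or `IsPGroup`-normalizer condition).  Take `P = ⊥`: `⊥` is strongly closed (`Helper25.stronglyClosed_bot`),
 `Q ⊔ ⊥ = Q` is strongly closed in `F` because every map of `F` is conjugation by an element of `S` (`hin`) and `S` normalizes `Q`; `Q ⊓ ⊥ = ⊥`.
(b) `N.Hom P = F.normalizerHom H P` (`hN P`).  `⊆`: `φ ∈ F.Hom P` extends to `ψ ∈ F.Hom (P ⊔ H)` with `ψ(H) = H`; `ψ = c_g`, `g ∈ S` (`hin`), and
 `(H.subgroupOf (P ⊔ H)).map ψ = H` says `g H g⁻¹ = H`, so `g ∈ normalizerIn S H` and `φ = c_g` on `P` with `P ≤ normalizerIn S H`: a map of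
 `innerFusionSystem (normalizerIn S H)`.  `⊇`: `c_g`, `g ∈ N_S(H)`, `P ≤ N_S(H)`: it is in `F.Hom P` (`F.conj_mem`), takes values in `N_S(H)`, and
 `conjHom (P ⊔ H) g` extends it and maps `H` onto `H` (see `conj_mem_aux` in `Cfsg/Agent/S5096.lean` for exactly this computation).
-/

set_option autoImplicit false

namespace Cfsg.Agent.Helper18.WE

open Cfsg Cfsg.FusionSystem Cfsg.Agent.Helper25 Cfsg.Agent.Helper3.KL

variable {Ω : Type*} [Group Ω] {S : Subgroup Ω}

/-- a subgroup of index `p` of the finite `p`-group `S` is normalized by `S` -/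
theorem WEEasy_norm [Finite S] (p : ℕ) [Fact p.Prime] (hS : IsPGroup p S) {Q : Subgroup Ω} (hQ : Q ≤ S)
    (hcard : Nat.card Q * p = Nat.card S) : ∀ g ∈ S, ∀ x ∈ Q, g * x * g⁻¹ ∈ Q := by
  have hp := (Fact.out : p.Prime)
  obtain ⟨n, hn⟩ := hS.exists_card_eq
  have hidx : (Q.subgroupOf S).index = p := by
    have h1 := Subgroup.card_mul_index (Q.subgroupOf S)
    have h2 : Nat.card (Q.subgroupOf S) = Nat.card Q :=
      Nat.card_congr (Subgroup.subgroupOfEquivOfLe hQ).toEquiv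
    rw [h2, ← hcard] at h1
    have : 0 < Nat.card Q := by
      have : Finite Q := Finite.of_injective (Subgroup.inclusion hQ) (Subgroup.inclusion_injective hQ)
      exact Nat.card_pos
    exact Nat.eq_of_mul_eq_mul_left this h1
  have hn1 : n ≠ 0 := by
    rintro rfl
    rw [pow_zero] at hn
    rw [hn] at hcard
    have := Nat.eq_one_of_mul_eq_one_left hcard
    exact hp.one_lt.ne' this
  have hnorm : (Q.subgroupOf S).Normal := by
    apply Subgroup.normal_of_index_eq_minFac_card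
    rw [hidx, hn, hp.pow_minFac hn1]
  intro g hg x hx
  have := hnorm.conj_mem ⟨x, hQ hx⟩ (Subgroup.mem_subgroupOf.mpr hx) ⟨g, hg⟩
  exact Subgroup.mem_subgroupOf.mp this

theorem easy_dir [Finite S] (p : ℕ) [Fact p.Prime] (hS : IsPGroup p S) (F : FusionSystem S)
    (hcard : p ^ 2 ≤ Nat.card S)
    (hin : ∀ P : Subgroup Ω, F.Hom P = (innerFusionSystem S).Hom P) :
    ∃ D : Subgroup Ω, ⊥ < D ∧ D < S ∧
      (∀ Q : Subgroup Ω, Q ≤ S → Nat.card ↥Q = Nat.card ↥D →
        ∃ P : Subgroup Ω, F.StronglyClosed P ∧ F.StronglyClosed (Q ⊔ P) ∧ F.StronglyClosed (Q ⊓ P)) ∧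
      (∀ H : Subgroup Ω, F.IsFullyNormalized H → Nat.card ↥H = Nat.card ↥D →
        ∀ N : FusionSystem (normalizerIn S H), F.IsNormalizerSystem H N →
          ∀ P : Subgroup Ω, N.Hom P = (innerFusionSystem (normalizerIn S H)).Hom P) := by
  have hp := (Fact.out : p.Prime)
  obtain ⟨n, hn⟩ := hS.exists_card_eq
  have hn2 : 2 ≤ n := by
    rw [hn] at hcard
    exact (Nat.pow_le_pow_iff_right hp.one_lt).mp hcard
  obtain ⟨K, hK⟩ := Sylow.exists_subgroup_card_pow_prime (G := ↥S) p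
    (show p ^ (n - 1) ∣ Nat.card ↥S from hn ▸ pow_dvd_pow p (Nat.sub_le n 1))
  set D : Subgroup Ω := K.map S.subtype with hD
  have hDcard : Nat.card D = p ^ (n - 1) := by
    rw [hD, Subgroup.card_map_of_injective S.subtype_injective, hK]
  have hDS : D ≤ S := Subgroup.map_subtype_le K
  have hmul : p ^ (n - 1) * p = p ^ n := by
    rw [← pow_succ]; congr 1; omega
  have hnorm : ∀ Q : Subgroup Ω, Q ≤ S → Nat.card Q = Nat.card D →
      ∀ g ∈ S, ∀ x ∈ Q, g * x * g⁻¹ ∈ Q := by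
    intro Q hQ hc
    apply WEEasy_norm p hS hQ
    rw [hc, hDcard, hmul, hn]
  refine ⟨D, ?_, ?_, ?_, ?_⟩
  · rw [bot_lt_iff_ne_bot]
    intro h
    rw [h, Subgroup.card_bot] at hDcard
    have h1 : 1 < p ^ (n - 1) := Nat.one_lt_pow (by omega) hp.one_lt
    omega
  · refine lt_of_le_of_ne hDS ?_
    intro h
    rw [h, hn] at hDcard
    have h1 : p ^ (n - 1) < p ^ n := Nat.pow_lt_pow_right hp.one_lt (by omega)
    omega
  · intro Q hQ hc
    refine ⟨⊥, stronglyClosed_bot F, ?_, ?_⟩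
    · rw [sup_bot_eq]
      refine ⟨hQ, fun R hR φ hφ x => ?_⟩
      rw [hin R] at hφ
      obtain ⟨_, g, hg, hφg⟩ := hφ
      rw [hφg x]
      exact hnorm Q hQ hc g hg x (hR x.2)
    · rw [inf_bot_eq]
      exact stronglyClosed_bot F
  · intro H hH hc N hN P
    have hHS : H ≤ S := hH.1
    have hSN : ∀ g ∈ S, g ∈ normalizerIn S H := by
      intro g hg
      refine ⟨hg, ?_⟩
      show g ∈ Subgroup.normalizer (H : Set Ω)
      rw [Subgroup.mem_normalizer_iff]
      intro h
      constructor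
      · intro hh
        exact hnorm H hHS hc g hg h hh
      · intro hh
        have := hnorm H hHS hc g⁻¹ (S.inv_mem hg) _ hh
        simpa [mul_assoc] using this
    ext φ
    rw [hN P]
    constructor
    · rintro ⟨hφF, hPN, hφN, ψ, hψ, hext, himg⟩
      rw [hin] at hψ
      obtain ⟨_, g, hg, hψg⟩ := hψ
      refine ⟨hPN, g, hSN g hg, fun x => ?_⟩
      rw [← hext x, hψg]
      rfl
    · rintro ⟨hPN, g, hg, hφg⟩
      have : φ = conjHom P g := MonoidHom.ext (fun x => hφg x)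
      rw [this]
      exact Cfsg.Agent.S5096.conj_mem_aux F H hHS hPN hg

end Cfsg.Agent.Helper18.WE
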