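import Mathlib
import Cfsg.Agent.Lib.WE.WEDefs
import Cfsg.Agent.Lib.Helper23.PGroup

/-!
# S5271 piece WE-FOC: `F` inner modulo `Y ≤ Φ(S)` gives `foc(F) ≤ Φ(S)`

RECIPE.  `F.focalSubgroup = closure {x⁻¹ * φ x}` (`Subgroup.closure_le`); `hI` gives `g ∈ S` with `(g x g⁻¹)⁻¹ φ x ∈ Y ≤ Φ`, and
`x⁻¹ φ x = (x⁻¹ g x g⁻¹) ((g x g⁻¹)⁻¹ φ x)`; `x⁻¹ g x g⁻¹` is a commutator of elements of `S`, and `commutator ↥S ≤ frattini ↥S` for a finite
`p`-group (every maximal subgroup is normal of index `p`, so the quotient is abelian: for a coatom `M`, `M` normal of prime index, `↥S ⧸ M` is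
cyclic hence commutative, `QuotientGroup`/`Abelianization.commutator_subset_ker` gives `commutator ≤ M`; or search for an existing
`commutator_le_frattini`-like lemma in Mathlib / our library).
-/

set_option autoImplicit false

namespace Cfsg.Agent.Helper18.WE

open Cfsg Cfsg.FusionSystem Cfsg.Agent.Helper25 Cfsg.Agent.Helper3.KL

variable {Ω : Type*} [Group Ω] {S : Subgroup Ω}

open scoped commutatorElement in
theorem focal_le_frattini [Finite S] (p : ℕ) [Fact p.Prime] (hS : IsPGroup p S) (F : FusionSystem S)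
    {Y : Subgroup Ω} (hI : InnerMod F Y) (hY : Y ≤ (frattini ↥S).map S.subtype) :
    F.focalSubgroup ≤ (frattini ↥S).map S.subtype := by
  unfold FusionSystem.focalSubgroup
  rw [Subgroup.closure_le]
  rintro y ⟨P, φ, x, hφ, rfl⟩
  obtain ⟨g, hgS, hg⟩ := hI P φ hφ
  have hxS : (x : Ω) ∈ S := (F.le_of_mem hφ).1 x.2
  have e : (x : Ω)⁻¹ * φ x = ((x : Ω)⁻¹ * g * x * g⁻¹) * ((g * (x : Ω) * g⁻¹)⁻¹ * φ x) := by group
  rw [SetLike.mem_coe, e]
  apply mul_mem
  · have h1 : ⁅(⟨(x : Ω)⁻¹, S.inv_mem hxS⟩ : ↥S), (⟨g, hgS⟩ : ↥S)⁆ ∈ commutator ↥S :=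
      Subgroup.commutator_mem_commutator (Subgroup.mem_top _) (Subgroup.mem_top _)
    have h2 := Cfsg.Agent.Helper23.commutator_le_frattini_pgroup p hS h1
    refine ⟨_, h2, ?_⟩
    simp [commutatorElement_def]
  · exact hY (hg x)

end Cfsg.Agent.Helper18.WE
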