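import Mathlib
import Cfsg.Agent.Lib.WE.WEDefs
import Cfsg.Agent.Lib.Helper25.FusionHyp

/-!
# S5271 piece WE-HYPBOT: trivial hyperfocal subgroup gives an inner system
`F.hyperfocalSubgroup p = closure {x⁻¹ * α x | P ≤ S, α ∈ pResidual p (F.autGroup P), x ∈ P}`,
`pResidual p G = closure {g | (orderOf g).Coprime p}`.

RECIPE.  For `P ≤ S` every `α ∈ pResidual p (F.autGroup P)` has `x⁻¹ α x ∈ hyp = ⊥` (`Helper25.hyperfocal_gen_mem`), so `α = 1`; thus every element of
`F.autGroup P` of order coprime to `p` is `1`, and a finite group with this property is a `p`-group (`F.autGroup P` is finite as `P` is; for `g` with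
`orderOf g = p ^ a * m`, `p ∤ m`: `g ^ p ^ a` has order `m` coprime to `p`, so `= 1`; or via Cauchy: a prime `q ≠ p` dividing the order gives an
element of order `q`; `IsPGroup.of_card`).  Conclude with `Helper3.KL.isInner_of_forall_isPGroup p hS F hF`.
-/

set_option autoImplicit false

namespace Cfsg.Agent.Helper18.WE

open Cfsg Cfsg.FusionSystem Cfsg.Agent.Helper25 Cfsg.Agent.Helper3.KL

variable {Ω : Type*} [Group Ω] {S : Subgroup Ω}

theorem isInner_of_hyperfocal_eq_bot [Finite S] (p : ℕ) [Fact p.Prime] (hS : IsPGroup p S)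
    (F : FusionSystem S) (hF : F.IsSaturated p) (h : F.hyperfocalSubgroup p = ⊥) : IsInner F := by
  apply isInner_of_forall_isPGroup p hS F hF
  intro P hPS
  haveI : Finite P := Finite.of_injective (Subgroup.inclusion hPS) (Subgroup.inclusion_injective hPS)
  haveI : Finite (MulAut P) := Finite.of_injective (fun f : MulAut P => (f : P → P))
    (fun f g hfg => MulEquiv.ext (fun x => congrFun hfg x))
  have key : ∀ g : F.autGroup P, (orderOf g).Coprime p → g = 1 := by
    intro g hg
    have hmem : g ∈ pResidual p (F.autGroup P) := Subgroup.subset_closure hg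
    apply Subtype.ext
    apply MulEquiv.ext
    intro x
    have h1 := hyperfocal_gen_mem F p hPS g hmem x
    rw [h, Subgroup.mem_bot] at h1
    have h2 : (((g : MulAut P) x : P) : Ω) = (x : Ω) := by
      have := congrArg (fun t => (x : Ω) * t) h1
      simpa using this
    exact Subtype.ext h2
  intro g
  have hfin : IsOfFinOrder g := isOfFinOrder_of_finite g
  have hpos : 0 < orderOf g := hfin.orderOf_pos
  obtain ⟨a, m, hnm, hm⟩ := Nat.exists_eq_pow_mul_and_not_dvd hpos.ne' p (Fact.out : p.Prime).ne_one
  refine ⟨a, ?_⟩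
  apply key
  have hord : orderOf (g ^ p ^ a) = m := by
    rw [orderOf_pow_of_dvd (pow_ne_zero a (Fact.out : p.Prime).ne_zero) (by rw [hm]; exact dvd_mul_right _ _), hm]
    exact Nat.mul_div_cancel_left m (pow_pos (Fact.out : p.Prime).pos a)
  rw [hord]
  exact ((Nat.Prime.coprime_iff_not_dvd (Fact.out : p.Prime)).2 hnm).symm

end Cfsg.Agent.Helper18.WE
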