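import Mathlib
import Cfsg.Agent.Lib.WE.WEDefs
import Cfsg.Agent.Lib.Helper25.FusionSolv
import Cfsg.Agent.Lib.Helper25.FusionHyp

/-!
# S5271 piece WE-HYPLE: `F` inner modulo the strongly closed `Z` gives `hyp(F) ≤ Z`
`F.hyperfocalSubgroup p = closure {x⁻¹ * α x | P ≤ S, α ∈ pResidual p (F.autGroup P), x ∈ P}`,
`pResidual p G = closure {g | (orderOf g).Coprime p}`.

RECIPE.  `Subgroup.closure_le`; fix `P ≤ S`.  The set `A := {β : F.autGroup P | ∀ x : P, (x : Ω)⁻¹ * ((β : MulAut P) x : P) ∈ Z}` is a subgroup of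
`F.autGroup P` (product: `x⁻¹ (βγ)x = (x⁻¹ γx) ((γx)⁻¹ β(γx))`; inverse: apply the condition to `β⁻¹ x` and invert).  It contains every `β` with
`(orderOf β).Coprime p`: `hI` applied to `P.subtype ∘ β` (`Helper25.mem_autGroup_iff`) gives `g ∈ S` with `(g x g⁻¹)⁻¹ β x ∈ Z` for all `x`; by induction on `n`,
`(g^n x g^{-n})⁻¹ * β^n x ∈ Z` for all `x` (`Z` is normalized by `S`: `Helper25.Solv.normal_of_stronglyClosed hZ`); `g ^ p ^ a = 1` (`hS`); choose `n` with
`n ≡ 1 [MOD orderOf β]` and `p ^ a ∣ n` (`Nat.chineseRemainder`, `(orderOf β).Coprime (p ^ a)`); then `β^n = β`, `g^n = 1`, so `x⁻¹ β x ∈ Z`.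
Hence `pResidual p (F.autGroup P) ≤ A` (`Subgroup.closure_le`).
-/

set_option autoImplicit false

namespace Cfsg.Agent.Helper18.WE

open Cfsg Cfsg.FusionSystem Cfsg.Agent.Helper25 Cfsg.Agent.Helper3.KL

variable {Ω : Type*} [Group Ω] {S : Subgroup Ω}

/-- the automorphisms of `P` that are trivial modulo `Z` -/
def wehyple_A (Z P : Subgroup Ω) : Subgroup (MulAut P) where
  carrier := {b | ∀ x : P, (x : Ω)⁻¹ * ((b x : P) : Ω) ∈ Z}
  one_mem' := by
    intro x
    simp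
  mul_mem' := by
    intro b c hb hc x
    have h1 := hc x
    have h2 := hb (c x)
    have e : (x : Ω)⁻¹ * (((b * c) x : P) : Ω)
        = ((x : Ω)⁻¹ * ((c x : P) : Ω)) * (((c x : P) : Ω)⁻¹ * ((b (c x) : P) : Ω)) := by
      rw [MulAut.mul_apply]
      group
    rw [e]
    exact mul_mem h1 h2
  inv_mem' := by
    intro b hb x
    have h := hb (b⁻¹ x)
    rw [MulAut.apply_inv_self] at h
    have h' := inv_mem h
    have e : (((b⁻¹ x : P) : Ω)⁻¹ * (x : Ω))⁻¹ = (x : Ω)⁻¹ * ((b⁻¹ x : P) : Ω) := by group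
    rw [e] at h'
    exact h'

theorem wehyple_mem_A {Z P : Subgroup Ω} {b : MulAut P} :
    b ∈ wehyple_A Z P ↔ ∀ x : P, (x : Ω)⁻¹ * ((b x : P) : Ω) ∈ Z := Iff.rfl

/-- iterating: if `b` is conjugation by `g` modulo `Z`, then `b ^ n` is conjugation by `g ^ n` modulo `Z` -/
theorem wehyple_iter {Z P : Subgroup Ω} (g : Ω) (hZn : ∀ z ∈ Z, g * z * g⁻¹ ∈ Z) (b : MulAut P)
    (hb : ∀ x : P, (g * (x : Ω) * g⁻¹)⁻¹ * ((b x : P) : Ω) ∈ Z) :
    ∀ (n : ℕ) (x : P), (g ^ n * (x : Ω) * (g ^ n)⁻¹)⁻¹ * (((b ^ n) x : P) : Ω) ∈ Z := by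
  intro n
  induction n with
  | zero =>
    intro x
    simp
  | succ n ih =>
    intro x
    have h1 := hb ((b ^ n) x)
    have h2 := hZn _ (ih x)
    have e : (g ^ (n + 1) * (x : Ω) * (g ^ (n + 1))⁻¹)⁻¹ * (((b ^ (n + 1)) x : P) : Ω)
        = (g * ((g ^ n * (x : Ω) * (g ^ n)⁻¹)⁻¹ * (((b ^ n) x : P) : Ω)) * g⁻¹) *
          ((g * (((b ^ n) x : P) : Ω) * g⁻¹)⁻¹ * ((b ((b ^ n) x) : P) : Ω)) := by
      rw [pow_succ' b n, MulAut.mul_apply, pow_succ' g n]
      group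
    rw [e]
    exact mul_mem h2 h1

theorem hyperfocal_le_of_innerMod [Finite S] (p : ℕ) [Fact p.Prime] (hS : IsPGroup p S)
    (F : FusionSystem S) {Z : Subgroup Ω} (hZ : F.StronglyClosed Z) (hI : InnerMod F Z) :
    F.hyperfocalSubgroup p ≤ Z := by
  unfold FusionSystem.hyperfocalSubgroup
  rw [Subgroup.closure_le]
  rintro y ⟨P, α, x, hP, hα, rfl⟩
  -- `Z` is normalized by `S`
  have hZn : ∀ g ∈ S, ∀ z ∈ Z, g * z * g⁻¹ ∈ Z := by
    intro g hg z hz
    have hN := Solv.normal_of_stronglyClosed hZ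
    have := hN.conj_mem ⟨z, hZ.1 hz⟩ (Subgroup.mem_subgroupOf.2 hz) ⟨g, hg⟩
    rw [Subgroup.mem_subgroupOf] at this
    simpa using this
  -- the residual lies in the subgroup of automorphisms trivial modulo `Z`
  have hle : pResidual p (F.autGroup P) ≤ (wehyple_A Z P).comap (F.autGroup P).subtype := by
    unfold pResidual
    rw [Subgroup.closure_le]
    intro β hβ
    have hβ' : (orderOf β).Coprime p := hβ
    show (β : MulAut P) ∈ wehyple_A Z P
    rw [wehyple_mem_A]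
    have hmem : P.subtype.comp (β : MulAut P).toMonoidHom ∈ F.Hom P :=
      (mem_autGroup_iff F hP (β : MulAut P)).1 β.2
    obtain ⟨g, hgS, hg⟩ := hI P _ hmem
    have hg' : ∀ x : P, (g * (x : Ω) * g⁻¹)⁻¹ * (((β : MulAut P) x : P) : Ω) ∈ Z := by
      intro x
      exact hg x
    obtain ⟨a, ha⟩ := hS ⟨g, hgS⟩
    have ha' : g ^ p ^ a = 1 := by
      have := congrArg Subtype.val ha
      simpa using this
    have hcop : (orderOf (β : MulAut P)).Coprime (p ^ a) := by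
      rw [Subgroup.orderOf_coe]
      exact Nat.Coprime.pow_right a hβ'
    obtain ⟨n, hn1, hn0⟩ := Nat.chineseRemainder hcop 1 0
    have hbn : (β : MulAut P) ^ n = (β : MulAut P) := by
      have := (pow_eq_pow_iff_modEq (x := (β : MulAut P))).2 hn1
      rwa [pow_one] at this
    have hgn : g ^ n = 1 := by
      obtain ⟨k, hk⟩ := (Nat.modEq_zero_iff_dvd).1 hn0
      rw [hk, pow_mul, ha', one_pow]
    intro x
    have := wehyple_iter g (hZn g hgS) (β : MulAut P) hg' n x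
    rw [hbn, hgn] at this
    simpa using this
  have := hle hα
  exact (wehyple_mem_A.1 this) x

end Cfsg.Agent.Helper18.WE
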