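import Mathlib
import Cfsg.Agent.Lib.WE.WEDefs
import Cfsg.Agent.Lib.Helper25.FusionSolv
import Cfsg.Agent.S5134

/-!
# S5271 piece WE-IMZ: if the factor system `F/Z` is inner then `F` is inner modulo `Z`
Throughout `hE : F.IsFactorSystem Z θ E` (so `Z ≤ S`, `ker θ = Z` (`hE.2.1`), `θ.range = S'`, and the maps of `E` on `P'` are exactly the maps
induced (`InducedAlong`) by the maps of `F` on `preimageAlong θ P'`).  Useful: `Helper25.mem_preimageAlong`, `Helper25.mem_imageAlong`,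
`Helper25.preimageAlong_le`, `Helper25.Solv.le_preimageAlong`, `Helper25.Solv.stronglyClosed_imageAlong` (FusionFactor / FusionMorph / FusionSolv).

RECIPE.  `Cfsg.Agent.S5134.result p hS F hF Z hZ θ E hE` gives `F.IsSurjectiveMorphism E θ`; its `IsMorphism` part says: every `φ ∈ F.Hom P`
induces some `φ' ∈ E.Hom (imageAlong θ P)` with `φ'(θ x) = θ(φ x)` (see the proof of `Helper25.Solv.stronglyClosed_preimageAlong` for the
destructuring).  `hEi` gives `g' ∈ S' = θ.range`, `g' = θ g` (`g : S`); so `θ(φ x) = θ(g x g⁻¹)`, i.e. `(g x g⁻¹)⁻¹ φ x ∈ ker θ = Z` (`hE.2.1`).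
-/

set_option autoImplicit false

namespace Cfsg.Agent.Helper18.WE

open Cfsg Cfsg.FusionSystem Cfsg.Agent.Helper25 Cfsg.Agent.Helper3.KL

variable {Ω : Type*} [Group Ω] {S : Subgroup Ω} {Ω' : Type*} [Group Ω'] {S' : Subgroup Ω'}

theorem innerMod_of_factor_inner [Finite S] (p : ℕ) [Fact p.Prime] (hS : IsPGroup p S)
    (F : FusionSystem S) (hF : F.IsSaturated p) {Z : Subgroup Ω} (hZ : F.StronglyClosed Z)
    {θ : S →* Ω'} {E : FusionSystem S'} (hE : F.IsFactorSystem Z θ E) (hEi : IsInner E) :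
    InnerMod F Z := by
  have hsm := Cfsg.Agent.S5134.result p hS F hF Z hZ θ E hE
  obtain ⟨⟨_, hmor⟩, hrange, -⟩ := hsm
  obtain ⟨_, hker, -, -⟩ := hE
  intro P φ hφ
  obtain ⟨φ', hφ', hP, hφS, hP', hind⟩ := hmor P φ hφ
  obtain ⟨g', hg', hconj⟩ := hEi _ φ' hφ'
  rw [← hrange] at hg'
  obtain ⟨g, rfl⟩ := hg'
  refine ⟨(g : Ω), g.2, fun x => ?_⟩
  have h1 := hind x
  rw [hconj] at h1
  have h2 : θ ((g * ⟨(x : Ω), hP x.2⟩ * g⁻¹)⁻¹ * ⟨φ x, hφS x⟩) = 1 := by
    rw [map_mul, map_inv, map_mul, map_mul, map_inv, ← h1]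
    exact inv_mul_cancel _
  have h3 := (hker _).1 h2
  simpa using h3

end Cfsg.Agent.Helper18.WE
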