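import Mathlib
import Cfsg.Agent.Lib.WE.WEDefs
import Cfsg.Agent.Lib.Helper21.PGroupFrattini

/-!
# S5271 piece WE-MAX: `Y ≤ Φ(S)` from the dichotomy (pure `p`-group theory)

RECIPE.  `frattini ↥S = sInf {M | IsCoatom M}` (`frattini`, `Order.radical`); so it is enough that `Y.subgroupOf S ≤ M` for every coatom `M` of
`Subgroup ↥S`.  `M` has index `p`: `S` is a finite `p`-group, hence nilpotent (`IsPGroup.isNilpotent`), `normalizerCondition_of_isNilpotent`, a coatom is
therefore normal, and `↥S ⧸ M` is a `p`-group without proper nontrivial subgroups, so of order `p` (look for `IsCoatom`/`index` lemmas for `p`-groups in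
Mathlib or our library, e.g. Helper19 `PGroupBasic`).  Then `H := M.map S.subtype ≤ S` has `|H| = |S| / p ≥ d` (`d < |S|`, both powers of `p`), and
`H ⊓ Y ≠ ⊥`: `|Y : H ⊓ Y| ≤ |S : H| = p` (`Subgroup.relIndex_inf_le`-type lemmas, or `Subgroup.card_mul_index`) while `|Y| ≥ p²`.  So `Y ≤ H` by `hdich`.
-/

set_option autoImplicit false

namespace Cfsg.Agent.Helper18.WE

open Cfsg Cfsg.FusionSystem Cfsg.Agent.Helper25 Cfsg.Agent.Helper3.KL

variable {Ω : Type*} [Group Ω] {S : Subgroup Ω}

theorem le_frattini [Finite S] (p : ℕ) [Fact p.Prime] (hS : IsPGroup p S) {d : ℕ}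
    (hd : ∃ k : ℕ, d = p ^ k) (hdS : d < Nat.card S) {Y : Subgroup Ω} (hYS : Y ≤ S)
    (hYp : p ^ 2 ≤ Nat.card Y)
    (hdich : ∀ H : Subgroup Ω, H ≤ S → d ≤ Nat.card H → H ⊓ Y ≠ ⊥ → Y ≤ H) :
    Y ≤ (frattini ↥S).map S.subtype := by
  have hp : p.Prime := Fact.out
  have hcoatom : ∀ M : Subgroup ↥S, IsCoatom M → Y.subgroupOf S ≤ M := by
    intro M hM
    have hidx : M.index = p := Cfsg.Agent.Helper21.coatom_index_of_isPGroup hS M hM
    have : M.Normal := Cfsg.Agent.Helper21.coatom_normal_of_isPGroup hS M hM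
    have hHS : M.map S.subtype ≤ S := by
      rintro _ ⟨m, -, rfl⟩
      exact m.2
    have hcardH : Nat.card (M.map S.subtype) = Nat.card M :=
      Nat.card_congr (M.equivMapOfInjective S.subtype S.subtype_injective).symm.toEquiv
    have hmul : Nat.card M * p = Nat.card S := by
      rw [← hidx]; exact M.card_mul_index
    -- `d ≤ |M|`
    have hdM : d ≤ Nat.card M := by
      obtain ⟨k, rfl⟩ := hd
      obtain ⟨n, hn⟩ := hS.exists_card_eq
      rw [hn] at hdS hmul
      have hkn : k < n := (Nat.pow_lt_pow_iff_right hp.one_lt).1 hdS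
      obtain ⟨n', rfl⟩ : ∃ n', n = n' + 1 := ⟨n - 1, by omega⟩
      rw [pow_succ] at hmul
      have hM' : Nat.card M = p ^ n' := Nat.eq_of_mul_eq_mul_right hp.pos hmul
      rw [hM']
      exact Nat.pow_le_pow_right hp.pos (by omega)
    -- `H ⊓ Y ≠ ⊥`
    have hne : M.map S.subtype ⊓ Y ≠ ⊥ := by
      intro hbot
      have hMK : M ⊓ Y.subgroupOf S = ⊥ := by
        rw [eq_bot_iff]
        intro x hx
        rw [Subgroup.mem_inf, Subgroup.mem_subgroupOf] at hx
        have h1 : (x : Ω) ∈ M.map S.subtype ⊓ Y :=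
          Subgroup.mem_inf.2 ⟨⟨x, hx.1, rfl⟩, hx.2⟩
        rw [hbot, Subgroup.mem_bot] at h1
        rw [Subgroup.mem_bot]
        exact Subtype.ext h1
      have h2 : Nat.card (Y.subgroupOf S) ∣ p := by
        rw [← Subgroup.relIndex_bot_left, ← hMK, Subgroup.inf_relIndex_right, ← hidx]
        exact Subgroup.relIndex_dvd_index_of_normal M (Y.subgroupOf S)
      have h3 : Nat.card (Y.subgroupOf S) = Nat.card Y :=
        Nat.card_congr (Subgroup.subgroupOfEquivOfLe hYS).toEquiv
      rw [h3] at h2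
      have h4 : Nat.card Y ≤ p := Nat.le_of_dvd hp.pos h2
      have h5 : p < p ^ 2 := by
        have := hp.one_lt
        nlinarith
      omega
    have hYH : Y ≤ M.map S.subtype := hdich _ hHS (hcardH ▸ hdM) hne
    intro x hx
    rw [Subgroup.mem_subgroupOf] at hx
    obtain ⟨m, hm, hmx⟩ := hYH hx
    have : m = x := Subtype.ext hmx
    rw [← this]
    exact hm
  have hfr : Y.subgroupOf S ≤ frattini ↥S := by
    unfold frattini Order.radical
    exact le_iInf₂ hcoatom
  intro y hy
  exact ⟨⟨y, hYS hy⟩, hfr (Subgroup.mem_subgroupOf.2 hy), rfl⟩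

end Cfsg.Agent.Helper18.WE
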