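import Mathlib
import Cfsg.Agent.Lib.WE.WEDefs
import Cfsg.Agent.Lib.Helper25.FusionNormal

/-!
# S5271 piece WE-MINSC: a nontrivial strongly closed subgroup contains a minimal nontrivial one

RECIPE.  The set `{Z | F.StronglyClosed Z ∧ Z ≠ ⊥ ∧ Z ≤ P}` is finite (`Helper25.finite_subgroups_le S`) and nonempty (`P`); take a member of least
`Nat.card` (`Set.exists_min_image`).  A strongly closed `Z' ≤ Z` with `Z' ≠ ⊥` is in the set, so `|Z| ≤ |Z'|`, hence `Z' = Z`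
(`Subgroup.eq_of_le_of_card_ge`, `Z` finite as `Z ≤ S`).
-/

set_option autoImplicit false

namespace Cfsg.Agent.Helper18.WE

open Cfsg Cfsg.FusionSystem Cfsg.Agent.Helper25 Cfsg.Agent.Helper3.KL

universe u

theorem exists_minimal_sc {Ω : Type u} [Group Ω] {S : Subgroup Ω} [Finite S] (F : FusionSystem S)
    {P : Subgroup Ω} (hP : F.StronglyClosed P) (hPne : P ≠ ⊥) :
    ∃ Z : Subgroup Ω, F.StronglyClosed Z ∧ Z ≠ ⊥ ∧ Z ≤ P ∧
      ∀ Z' : Subgroup Ω, F.StronglyClosed Z' → Z' ≤ Z → Z' = ⊥ ∨ Z' = Z := by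
  classical
  have hfin : {Z : Subgroup Ω | F.StronglyClosed Z ∧ Z ≠ ⊥ ∧ Z ≤ P}.Finite :=
    (finite_subgroups_le S).subset fun Z hZ => hZ.1.1
  obtain ⟨Z, hZmem, hZmin⟩ := Set.exists_min_image _ (fun Z : Subgroup Ω => Nat.card Z) hfin
    ⟨P, hP, hPne, le_refl P⟩
  refine ⟨Z, hZmem.1, hZmem.2.1, hZmem.2.2, ?_⟩
  intro Z' hZ' hle
  by_cases hb : Z' = ⊥
  · exact Or.inl hb
  · right
    have hcard : Nat.card Z ≤ Nat.card Z' := hZmin Z' ⟨hZ', hb, hle.trans hZmem.2.2⟩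
    have : Finite Z := Finite.of_injective (Subgroup.inclusion hZmem.1.1)
      (Subgroup.inclusion_injective _)
    exact Subgroup.eq_of_le_of_card_ge hle hcard

end Cfsg.Agent.Helper18.WE
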