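import Mathlib
import Cfsg.Agent.Lib.WE.WEDefs
import Cfsg.Agent.Lib.WE.WECover
import Cfsg.Agent.Lib.Helper25.FusionSolv2
import Cfsg.Agent.Lib.Helper25.FusionNormal3
import Cfsg.Agent.Lib.Helper25.FusionPrimeIndex3
import Cfsg.Agent.S5128

/-!
# S5271 piece WE-T: minimal strongly closed subgroups have order `≤ d`

RECIPE.  Apply WE-COVER with `R = S` and `L = {X | F.StronglyClosed X}`:
`hsup` = `Cfsg.Agent.S5128.result p hS F hF`, `hinf` = `Helper25.Solv.stronglyClosed_inf` (FusionSolv2),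
`hnorm`: `X ≤ S` is `hX.1`, and `S ≤ normalizer X` from `Helper25.Solv.normal_of_stronglyClosed`
(or `Helper25.mem_normalizer_of_stronglyClosed` / `Helper3.KL.le_normalizer_of_stronglyClosed`),
`hsc`: `S ⊓ P = P` as `P ≤ S`; `⊥ ∈ L` by `Helper25.stronglyClosed_bot`, `S ∈ L` by `Helper25.stronglyClosed_self`.
* `card_le_of_minimal`: `cover` with `X = ⊥`, `X' = Z`, `hcov` from `hmin`; `|⊥| = 1 < d`, so `¬ d < |Z|`.
-/

set_option autoImplicit false

namespace Cfsg.Agent.Helper18.WE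

open Cfsg Cfsg.FusionSystem Cfsg.Agent.Helper25

variable {Ω : Type*} [Group Ω] {S : Subgroup Ω}

theorem card_le_of_minimal [Finite S] (p : ℕ) [Fact p.Prime] (hS : IsPGroup p S) (F : FusionSystem S)
    (hF : F.IsSaturated p) {d : ℕ} (hd : ∃ k : ℕ, d = p ^ k) (hd1 : 1 < d) (hA : HypA F d)
    {Z : Subgroup Ω} (hZ : F.StronglyClosed Z)
    (hmin : ∀ Z' : Subgroup Ω, F.StronglyClosed Z' → Z' ≤ Z → Z' = ⊥ ∨ Z' = Z) :
    Nat.card Z ≤ d := by
  by_contra hlt
  rw [not_le] at hlt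
  have hcov := cover p hS F hd hA (R := S) le_rfl {X | F.StronglyClosed X}
    (fun X hX Y hY => Cfsg.Agent.S5128.result p hS F hF X Y hX hY)
    (fun X hX Y hY => Cfsg.Agent.Helper25.Solv.stronglyClosed_inf hX hY)
    (fun X hX => ⟨hX.1, fun g hg => mem_normalizer_of_stronglyClosed hX hg⟩)
    (fun P hP => by
      show F.StronglyClosed (S ⊓ P)
      rw [inf_eq_right.2 hP.1]
      exact hP)
    (X := ⊥) (X' := Z) (stronglyClosed_bot F) hZ bot_le
    (fun Z' hZ' _ hle => hmin Z' hZ' hle)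
  apply hcov
  refine ⟨?_, hlt⟩
  rw [Subgroup.card_bot]
  exact hd1

end Cfsg.Agent.Helper18.WE
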