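import Mathlib
import Cfsg.Agent.Lib.WE.WEDefs
import Cfsg.Agent.Lib.WE.WEHypInn
import Cfsg.Agent.Lib.WE.WEFoc
import Cfsg.Agent.S5224
import Cfsg.Agent.S5290

/-!
# S5271 piece WE-TATE: `foc(F) ≤ Φ(S)` gives `hyp(F) = 1` (Tate's theorem S5224)

RECIPE.  `H := innerFusionSystem S` is saturated (copy the 15-line proof `inner_isSaturated` of `Cfsg/Agent/S5290.lean` under a fresh name,
or `import Cfsg.Agent.S5290` and cite `Cfsg.Agent.S5290.inner_isSaturated p hS`), `H.IsSubsystemOf F` (each map of `H` is a `conjHom`, `F.conj_mem`),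
and `H.focalSubgroup ≤ Φ` by `focal_le_frattini` (WE-FOC, by statement) applied to `H` with `Y = ⊥` (`InnerMod H ⊥`: a map of `H` is `c_g`, the
quotient is `1`).  So `Φ ⊔ foc F = Φ = Φ ⊔ foc H`; `Cfsg.Agent.S5224.result p hS F hF H hH hHF` gives first `foc F = foc H` and then
`hyp F = hyp H`, which is `⊥` by `hyperfocal_inner_eq_bot p hS` (WE-HYPINN, by statement).
-/

set_option autoImplicit false

namespace Cfsg.Agent.Helper18.WE

open Cfsg Cfsg.FusionSystem Cfsg.Agent.Helper25 Cfsg.Agent.Helper3.KL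

variable {Ω : Type*} [Group Ω] {S : Subgroup Ω}

theorem hyperfocal_eq_bot_of_focal_le [Finite S] (p : ℕ) [Fact p.Prime] (hS : IsPGroup p S)
    (F : FusionSystem S) (hF : F.IsSaturated p)
    (h : F.focalSubgroup ≤ (frattini ↥S).map S.subtype) : F.hyperfocalSubgroup p = ⊥ := by
  have hH : (innerFusionSystem S).IsSaturated p := Cfsg.Agent.S5290.inner_isSaturated p hS
  have hHF : (innerFusionSystem S).IsSubsystemOf F := by
    rintro P φ ⟨hP, g, hg, hφ⟩
    have hφc : φ = conjHom P g := by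
      ext x
      rw [hφ x, conjHom_apply]
    rw [hφc]
    exact F.conj_mem hP hg
  have hImod : InnerMod (innerFusionSystem S) ⊥ := by
    rintro P φ ⟨hP, g, hg, hφ⟩
    refine ⟨g, hg, fun x => ?_⟩
    rw [hφ x, inv_mul_cancel]
    exact Subgroup.one_mem _
  have hfocH : (innerFusionSystem S).focalSubgroup ≤ (frattini ↥S).map S.subtype :=
    focal_le_frattini p hS (innerFusionSystem S) hImod bot_le
  obtain ⟨h1, h2⟩ := Cfsg.Agent.S5224.result p hS F hF (innerFusionSystem S) hH hHF
  have heq : (frattini ↥S).map S.subtype ⊔ F.focalSubgroup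
      = (frattini ↥S).map S.subtype ⊔ (innerFusionSystem S).focalSubgroup := by
    rw [sup_eq_left.2 h, sup_eq_left.2 hfocH]
  rw [h2.1 (h1.1 heq)]
  exact hyperfocal_inner_eq_bot p hS

end Cfsg.Agent.Helper18.WE
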