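import Mathlib
import Cfsg.Agent.Lib.WE.WEDefs
import Cfsg.Agent.Lib.Helper25.FusionSolv

/-!
# S5271 piece WE-QCARD: the order of a full preimage in a factor system
Throughout `hE : F.IsFactorSystem Z θ E` (so `Z ≤ S`, `ker θ = Z` (`hE.2.1`), `θ.range = S'`, and the maps of `E` on `P'` are exactly the maps
induced (`InducedAlong`) by the maps of `F` on `preimageAlong θ P'`).

PROOF.  `Helper25.preimageMap θ Q' : preimageAlong θ Q' →* Q'` is onto, and its kernel is in bijection with `Z`.
-/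

set_option autoImplicit false

namespace Cfsg.Agent.Helper18.WE

open Cfsg Cfsg.FusionSystem Cfsg.Agent.Helper25 Cfsg.Agent.Helper3.KL

variable {Ω : Type*} [Group Ω] {S : Subgroup Ω} {Ω' : Type*} [Group Ω'] {S' : Subgroup Ω'}

theorem card_preimageAlong [Finite S] {F : FusionSystem S} {Z : Subgroup Ω} {θ : S →* Ω'}
    {E : FusionSystem S'} (hE : F.IsFactorSystem Z θ E) {Q' : Subgroup Ω'} (hQ' : Q' ≤ S') :
    Nat.card (preimageAlong θ Q') = Nat.card Z * Nat.card Q' := by
  obtain ⟨hZS, hker, hrange, -⟩ := hE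
  have hsurj := preimageMap_surjective hrange hQ'
  have h1 : Nat.card (preimageAlong θ Q')
      = Nat.card (preimageMap θ Q').ker * Nat.card Q' := by
    rw [← Subgroup.card_mul_index (preimageMap θ Q').ker, Subgroup.index_ker,
      MonoidHom.range_eq_top.mpr hsurj, Subgroup.card_top]
  rw [h1]
  congr 1
  have hf : ∀ x : (preimageMap θ Q').ker, ((x : preimageAlong θ Q') : Ω) ∈ Z := by
    intro x
    have hx : preimageMap θ Q' (x : preimageAlong θ Q') = 1 := x.2
    have hx2 : θ ⟨((x : preimageAlong θ Q') : Ω), preimageAlong_le θ Q' (x : preimageAlong θ Q').2⟩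
        = 1 := by
      rw [← preimageMap_apply, hx]
      rfl
    exact (hker _).mp hx2
  apply Nat.card_eq_of_bijective
    (fun x : (preimageMap θ Q').ker => (⟨((x : preimageAlong θ Q') : Ω), hf x⟩ : Z))
  constructor
  · intro x y hxy
    apply Subtype.ext
    apply Subtype.ext
    have h2 : ((⟨((x : preimageAlong θ Q') : Ω), hf x⟩ : Z) : Ω)
        = ((⟨((y : preimageAlong θ Q') : Ω), hf y⟩ : Z) : Ω) := congrArg Subtype.val hxy
    exact h2
  · intro z
    have hzS : (z : Ω) ∈ S := hZS z.2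
    have hz1 : θ ⟨(z : Ω), hzS⟩ = 1 := (hker ⟨(z : Ω), hzS⟩).mpr z.2
    have hzP : (z : Ω) ∈ preimageAlong θ Q' := by
      rw [mem_preimageAlong]
      exact ⟨hzS, by rw [hz1]; exact Q'.one_mem⟩
    refine ⟨⟨⟨(z : Ω), hzP⟩, ?_⟩, ?_⟩
    · rw [MonoidHom.mem_ker]
      apply Subtype.ext
      rw [preimageMap_apply]
      exact hz1
    · rfl

end Cfsg.Agent.Helper18.WE
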