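import Mathlib
import Cfsg.Agent.Lib.WE.WEDefs
import Cfsg.Agent.Lib.WE.WEQCard
import Cfsg.Agent.Lib.Helper25.FusionSolv

/-!
# S5271 piece WE-QA: hypothesis (a) passes to a factor system
Throughout `hE : F.IsFactorSystem Z θ E` (so `Z ≤ S`, `ker θ = Z` (`hE.2.1`), `θ.range = S'`, and the maps of `E` on `P'` are exactly the maps
induced (`InducedAlong`) by the maps of `F` on `preimageAlong θ P'`).  Useful: `Helper25.mem_preimageAlong`, `Helper25.mem_imageAlong`,
`Helper25.preimageAlong_le`, `Helper25.Solv.le_preimageAlong`, `Helper25.Solv.stronglyClosed_imageAlong` (FusionFactor / FusionMorph / FusionSolv).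

RECIPE.  `Q' ≤ S'`, `|Q'| = d'`.  `Q := preimageAlong θ Q'` has `|Q| = |Z| * |Q'| = d` (`card_preimageAlong`, by statement), `Q ≤ S`.
`hA Q _ _` gives `P`.  Take `P' := imageAlong θ P`.  `Helper25.Solv.stronglyClosed_imageAlong hE` for `P`, `Q ⊔ P`, `Q ⊓ P`, and then
 * `imageAlong θ Q = Q'` (as `Q' ≤ θ.range`),
 * `imageAlong θ (Q ⊔ P) = Q' ⊔ P'` (`imageAlong θ X = (X.subgroupOf S).map θ`; `Subgroup.subgroupOf_sup` for `Q, P ≤ S`, then `Subgroup.map_sup`;
   or `≤` both ways elementwise),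
 * `imageAlong θ (Q ⊓ P) = Q' ⊓ P'`: `≤` clear; `≥`: `x' = θ q = θ y` with `q ∈ Q`, `y ∈ P`; then `q⁻¹ y ∈ ker θ = Z ≤ Q`
   (`Helper25.Solv.le_preimageAlong hE Q'`), so `y ∈ Q ⊓ P`.
-/

set_option autoImplicit false

namespace Cfsg.Agent.Helper18.WE

open Cfsg Cfsg.FusionSystem Cfsg.Agent.Helper25 Cfsg.Agent.Helper3.KL

variable {Ω : Type*} [Group Ω] {S : Subgroup Ω} {Ω' : Type*} [Group Ω'] {S' : Subgroup Ω'}

theorem hypA_factor [Finite S] {F : FusionSystem S} {Z : Subgroup Ω} {θ : S →* Ω'}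
    {E : FusionSystem S'} (hE : F.IsFactorSystem Z θ E) {d d' : ℕ} (hdd : Nat.card Z * d' = d)
    (hA : HypA F d) : HypA E d' := by
  intro Q' hQ'S hQ'card
  have hQS : preimageAlong θ Q' ≤ S := preimageAlong_le θ Q'
  have hQcard : Nat.card (preimageAlong θ Q') = d := by
    rw [card_preimageAlong hE hQ'S, hQ'card, hdd]
  obtain ⟨P, hP, hQP, hQiP⟩ := hA (preimageAlong θ Q') hQS hQcard
  have hrange : θ.range = S' := hE.2.2.1
  -- the image of the full preimage of `Q'` is `Q'`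
  have himQ : imageAlong θ (preimageAlong θ Q') = Q' := by
    apply le_antisymm
    · intro y hy
      obtain ⟨s, hs, rfl⟩ := mem_imageAlong.1 hy
      obtain ⟨h, hθ⟩ := mem_preimageAlong.1 hs
      exact hθ
    · intro y hy
      have hyS : y ∈ θ.range := by
        rw [hrange]
        exact hQ'S hy
      obtain ⟨s, rfl⟩ := hyS
      exact mem_imageAlong.2 ⟨s, mem_preimageAlong.2 ⟨s.2, hy⟩, rfl⟩
  have himsup : imageAlong θ (preimageAlong θ Q' ⊔ P) = Q' ⊔ imageAlong θ P := by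
    have h1 : imageAlong θ (preimageAlong θ Q' ⊔ P)
        = imageAlong θ (preimageAlong θ Q') ⊔ imageAlong θ P := by
      unfold imageAlong
      rw [Subgroup.subgroupOf_sup hQS hP.1, Subgroup.map_sup]
    rw [h1, himQ]
  have himinf : imageAlong θ (preimageAlong θ Q' ⊓ P) = Q' ⊓ imageAlong θ P := by
    apply le_antisymm
    · intro y hy
      obtain ⟨s, hs, rfl⟩ := mem_imageAlong.1 hy
      refine ⟨?_, mem_imageAlong.2 ⟨s, hs.2, rfl⟩⟩
      obtain ⟨h, hθ⟩ := mem_preimageAlong.1 hs.1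
      exact hθ
    · intro y hy
      obtain ⟨s, hsP, rfl⟩ := mem_imageAlong.1 hy.2
      exact mem_imageAlong.2 ⟨s, ⟨mem_preimageAlong.2 ⟨s.2, hy.1⟩, hsP⟩, rfl⟩
  refine ⟨imageAlong θ P, Solv.stronglyClosed_imageAlong hE hP, ?_, ?_⟩
  · rw [← himsup]
    exact Solv.stronglyClosed_imageAlong hE hQP
  · rw [← himinf]
    exact Solv.stronglyClosed_imageAlong hE hQiP

end Cfsg.Agent.Helper18.WE
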