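import Mathlib
import Cfsg.Agent.Lib.WE.WEDefs
import Cfsg.Agent.Lib.WE.WEQCard
import Cfsg.Agent.Lib.Helper3.KLQuot

/-!
# S5271 piece WE-QB: hypothesis (b) passes to a factor system (given `ConjGE F d`)
Throughout `hE : F.IsFactorSystem Z θ E` (so `Z ≤ S`, `ker θ = Z` (`hE.2.1`), `θ.range = S'`, and the maps of `E` on `P'` are exactly the maps
induced (`InducedAlong`) by the maps of `F` on `preimageAlong θ P'`).  Useful: `Helper25.mem_preimageAlong`, `Helper25.mem_imageAlong`,
`Helper25.preimageAlong_le`, `Helper25.Solv.le_preimageAlong`, `Helper25.Solv.stronglyClosed_imageAlong` (FusionFactor / FusionMorph / FusionSolv).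

RECIPE.  `H'` fully normalized in `E` (so `H' ≤ S'`), `|H'| = d'`, `M` a normalizer system of `H'` in `E`:
`Helper3.KL.isInner_normalizer_factor F Z θ E hE H' hR M hM`, where `hR` follows from `hC : ConjGE F d`:
`preimageAlong θ H' ≤ K` gives `|K| ≥ |preimageAlong θ H'| = |Z| * d' = d` (`card_preimageAlong`, by statement; `K ≤ S` is finite by `F.le_of_mem`).
-/

set_option autoImplicit false

namespace Cfsg.Agent.Helper18.WE

open Cfsg Cfsg.FusionSystem Cfsg.Agent.Helper25 Cfsg.Agent.Helper3.KL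

variable {Ω : Type*} [Group Ω] {S : Subgroup Ω} {Ω' : Type*} [Group Ω'] {S' : Subgroup Ω'}

theorem hypB_factor [Finite S] {F : FusionSystem S} {Z : Subgroup Ω} {θ : S →* Ω'}
    {E : FusionSystem S'} (hE : F.IsFactorSystem Z θ E) {d d' : ℕ} (hdd : Nat.card Z * d' = d)
    (hC : ConjGE F d) : HypB E d' := by
  intro H' hH' hcard M hM
  have hH'S : H' ≤ S' := hH'.1
  refine isInner_normalizer_factor F Z θ E hE H' ?_ M hM
  intro K hRK ψ hψ _
  apply hC K ψ hψ
  have hKS : K ≤ S := (F.le_of_mem hψ).1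
  haveI : Finite K := Finite.of_injective (fun x : K => (⟨(x : Ω), hKS x.2⟩ : S))
    (fun a b hab => Subtype.ext (congrArg (fun y : S => (y : Ω)) hab))
  rw [← hdd, ← hcard, ← card_preimageAlong hE hH'S]
  exact Subgroup.card_le_of_le hRK

end Cfsg.Agent.Helper18.WE
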