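import Mathlib
import Cfsg.Agent.Lib.WE.WEDefs
import Cfsg.Agent.Lib.Helper25.FusionSolv

/-!
# S5271 piece WE-QI: the factor system modulo a strongly closed subgroup of order `≥ d` is inner (given `ConjGE F d`)
Throughout `hE : F.IsFactorSystem Z θ E` (so `Z ≤ S`, `ker θ = Z` (`hE.2.1`), `θ.range = S'`, and the maps of `E` on `P'` are exactly the maps
induced (`InducedAlong`) by the maps of `F` on `preimageAlong θ P'`).  Useful: `Helper25.mem_preimageAlong`, `Helper25.mem_imageAlong`,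
`Helper25.preimageAlong_le`, `Helper25.Solv.le_preimageAlong`, `Helper25.Solv.stronglyClosed_imageAlong` (FusionFactor / FusionMorph / FusionSolv).

RECIPE.  A map `φ'` of `E` on `P'` (`P' ≤ S'`) is induced by some `φ ∈ F.Hom (preimageAlong θ P')`; that source contains `Z`
(`Helper25.Solv.le_preimageAlong hE P'`), so its order is `≥ |Z| ≥ d` and `φ = c_g`, `g ∈ S`, by `hC`.  Every element of `P' ≤ S' = θ.range` is
`θ x` with `x ∈ preimageAlong θ P'`, and `φ'(θ x) = θ(φ x) = θ g * θ x * (θ g)⁻¹` (`InducedAlong`); `θ g ∈ S'`.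
-/

set_option autoImplicit false

namespace Cfsg.Agent.Helper18.WE

open Cfsg Cfsg.FusionSystem Cfsg.Agent.Helper25 Cfsg.Agent.Helper3.KL

variable {Ω : Type*} [Group Ω] {S : Subgroup Ω} {Ω' : Type*} [Group Ω'] {S' : Subgroup Ω'}

theorem isInner_factor_of_conjGE [Finite S] {F : FusionSystem S} {Z : Subgroup Ω} {θ : S →* Ω'}
    {E : FusionSystem S'} (hE : F.IsFactorSystem Z θ E) {d : ℕ} (hC : ConjGE F d)
    (hZd : d ≤ Nat.card Z) : IsInner E := by
  intro P' φ' hφ'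
  obtain ⟨hP'S, φ, hφ, hP, hφS, hPP', hind⟩ := (hE.2.2.2 P' φ').1 hφ'
  have hZle : Z ≤ preimageAlong θ P' := Solv.le_preimageAlong hE P'
  have : Finite (preimageAlong θ P') :=
    Finite.of_injective (Subgroup.inclusion (preimageAlong_le θ P'))
      (Subgroup.inclusion_injective _)
  have hcard : d ≤ Nat.card (preimageAlong θ P') := hZd.trans (Subgroup.card_le_of_le hZle)
  obtain ⟨g, hgS, hg⟩ := hC _ φ hφ hcard
  refine ⟨θ ⟨g, hgS⟩, ?_, ?_⟩
  · rw [← hE.2.2.1]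
    exact ⟨_, rfl⟩
  · intro y
    have hy : (y : Ω') ∈ θ.range := by
      rw [hE.2.2.1]
      exact hP'S y.2
    obtain ⟨s, hs⟩ := hy
    have hsP : (s : Ω) ∈ preimageAlong θ P' := by
      rw [mem_preimageAlong]
      refine ⟨s.2, ?_⟩
      have : θ ⟨(s : Ω), s.2⟩ = (y : Ω') := hs
      rw [this]
      exact y.2
    have h1 := hind ⟨s, hsP⟩
    have h2 : (⟨θ ⟨((⟨s, hsP⟩ : preimageAlong θ P') : Ω), hP hsP⟩, hPP' ⟨s, hsP⟩⟩ : P') = y := by
      apply Subtype.ext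
      exact hs
    rw [h2] at h1
    rw [h1]
    have h3 : (⟨φ ⟨s, hsP⟩, hφS ⟨s, hsP⟩⟩ : S) = ⟨g, hgS⟩ * s * ⟨g, hgS⟩⁻¹ := by
      apply Subtype.ext
      show φ ⟨s, hsP⟩ = g * (s : Ω) * g⁻¹
      exact hg ⟨s, hsP⟩
    rw [h3, map_mul, map_mul, map_inv, hs]

end Cfsg.Agent.Helper18.WE
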