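import Mathlib
import Cfsg.Agent.Lib.WE.WEDefs
import Cfsg.Agent.Lib.WE.WEQA
import Cfsg.Agent.Lib.WE.WEQB
import Cfsg.Agent.Lib.WE.WEQI
import Cfsg.Agent.Lib.WE.WEIMZ
import Cfsg.Agent.Lib.Helper25.FusionSolv
import Cfsg.Agent.S5132
import Cfsg.Agent.S5133
import Cfsg.Agent.S5134

/-!
# S5271 piece WE-U: the induction step through the factor system `F/Z`

RECIPE.  `haveI := Helper25.Solv.normal_of_stronglyClosed hZ`; `Cfsg.Agent.S5132.result p hS F Z hZ` gives the factor system `E` over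
`⊤ ≤ S ⧸ Z.subgroupOf S` with `θ = QuotientGroup.mk' _`.
* If `Nat.card Z = d`: `isInner_factor_of_conjGE hE hC (le_of_eq ...)` (WE-QI, by statement).
* If `Nat.card Z < d`: `|Z| = p ^ j` (`IsPGroup.exists_card_eq` for `Z ≤ S`), `d = p ^ k`, `j < k`, `d' := p ^ (k - j)`, `|Z| * d' = d`, `1 < d'`.
  `|↥(⊤ : Subgroup (S ⧸ _))| = |S ⧸ _| = |S| / |Z|` (`Subgroup.card_top`/`Nat.card_congr Subgroup.topEquiv`, `Subgroup.card_eq_card_quotient_mul_card_subgroup`,
  `|Z.subgroupOf S| = |Z|` as `Z ≤ S`), so `d' < |S'|` (from `d < |S|`) and `|S'| < |S|` (`|Z| > 1` as `Z ≠ ⊥`).  `S'` is a finite `p`-group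
  (`IsPGroup.to_quotient`, then `.to_subgroup`/`of_equiv` for `⊤`).  `E` is saturated:
  `Cfsg.Agent.S5133.result p hS F hF E θ (Cfsg.Agent.S5134.result p hS F hF Z hZ θ E hE)`.
  `hypA_factor hE hdd hA` (WE-QA), `hypB_factor hE hdd hC` (WE-QB), then `IH`.
Finally `innerMod_of_factor_inner p hS F hF hZ hE hEi` (WE-IMZ).  All four are cited by statement.
-/

set_option autoImplicit false

namespace Cfsg.Agent.Helper18.WE

open Cfsg Cfsg.FusionSystem Cfsg.Agent.Helper25 Cfsg.Agent.Helper3.KL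

universe u

theorem innerMod_of_sc {Ω : Type u} [Group Ω] {S : Subgroup Ω} [Finite S] (p : ℕ) [Fact p.Prime]
    (hS : IsPGroup p S) (F : FusionSystem S) (hF : F.IsSaturated p) {d : ℕ}
    (hd : ∃ k : ℕ, d = p ^ k) (hd1 : 1 < d) (hdS : d < Nat.card S) (hA : HypA F d) (hC : ConjGE F d)
    (IH : ∀ {Ω' : Type u} [Group Ω'] {S' : Subgroup Ω'} [Finite S'] (_ : IsPGroup p S')
      (E : FusionSystem S') (_ : E.IsSaturated p), Nat.card S' < Nat.card S →
      ∀ d' : ℕ, (∃ k : ℕ, d' = p ^ k) → 1 < d' → d' < Nat.card S' → HypA E d' → HypB E d' → IsInner E)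
    {Z : Subgroup Ω} (hZ : F.StronglyClosed Z) (hZne : Z ≠ ⊥) (hZd : Nat.card Z ≤ d) :
    InnerMod F Z := by
  haveI hnorm : (Z.subgroupOf S).Normal := Solv.normal_of_stronglyClosed hZ
  obtain ⟨E, hE⟩ := Cfsg.Agent.S5132.result p hS F Z hZ
  have hZS : Z ≤ S := hZ.1
  haveI : Finite Z := finite_of_le_finite hZS
  have hcZ : Nat.card (Z.subgroupOf S) = Nat.card Z :=
    Nat.card_congr (Subgroup.subgroupOfEquivOfLe hZS).toEquiv
  have hcQ : Nat.card (⊤ : Subgroup (S ⧸ Z.subgroupOf S)) * Nat.card Z = Nat.card S := by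
    rw [Subgroup.card_top, ← hcZ]
    exact (Subgroup.card_eq_card_quotient_mul_card_subgroup (Z.subgroupOf S)).symm
  have hZ1 : 1 < Nat.card Z := by
    rcases Nat.lt_or_ge 1 (Nat.card Z) with h | h
    · exact h
    · exfalso
      have h1 : Nat.card Z = 1 := le_antisymm h Nat.card_pos
      exact hZne (Subgroup.card_eq_one.mp h1)
  have hEi : IsInner E := by
    rcases Nat.lt_or_ge (Nat.card Z) d with hlt | hge
    · obtain ⟨k, hk⟩ := hd
      obtain ⟨j, hj⟩ := (hS.to_le hZS).exists_card_eq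
      have hp1 : 1 < p := (Fact.out : p.Prime).one_lt
      have hjk : j < k := by
        rw [hj, hk] at hlt
        exact (Nat.pow_lt_pow_iff_right hp1).mp hlt
      have hdd : Nat.card Z * p ^ (k - j) = d := by
        rw [hj, hk, ← pow_add]
        congr 1
        omega
      have hd1' : 1 < p ^ (k - j) := Nat.one_lt_pow (by omega) hp1
      have hS' : IsPGroup p (⊤ : Subgroup (S ⧸ Z.subgroupOf S)) :=
        (hS.to_quotient (Z.subgroupOf S)).to_subgroup ⊤
      have hEsat : E.IsSaturated p :=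
        Cfsg.Agent.S5133.result p hS F hF E _ (Cfsg.Agent.S5134.result p hS F hF Z hZ _ E hE)
      have hlt' : Nat.card (⊤ : Subgroup (S ⧸ Z.subgroupOf S)) < Nat.card S := by
        have hpos : 0 < Nat.card (⊤ : Subgroup (S ⧸ Z.subgroupOf S)) := Nat.card_pos
        nlinarith
      have hdS' : p ^ (k - j) < Nat.card (⊤ : Subgroup (S ⧸ Z.subgroupOf S)) := by
        have h1 : Nat.card Z * p ^ (k - j) < Nat.card Z * Nat.card (⊤ : Subgroup (S ⧸ Z.subgroupOf S)) := by
          rw [hdd, mul_comm, hcQ]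
          exact hdS
        exact Nat.lt_of_mul_lt_mul_left h1
      exact IH hS' E hEsat hlt' (p ^ (k - j)) ⟨k - j, rfl⟩ hd1' hdS' (hypA_factor hE hdd hA)
        (hypB_factor hE hdd hC)
    · exact isInner_factor_of_conjGE hE hC hge
  exact innerMod_of_factor_inner p hS F hF hZ hE hEi

end Cfsg.Agent.Helper18.WE
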