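import Mathlib
import Cfsg.Agent.Lib.WE.WEDefs
import Cfsg.Agent.Lib.Helper25.FusionSolv
import Cfsg.Agent.Lib.Helper25.FusionHyp
import Cfsg.Agent.Lib.Helper25.FusionSat3
import Cfsg.Agent.Lib.Helper24.BG101C
import Cfsg.Agent.S5124

/-!
# S5271 piece WE-YP: the hyperfocal subgroup does not have order `p`
-/

set_option autoImplicit false
set_option linter.style.haveILetI false

namespace Cfsg.Agent.Helper18.WE

open Cfsg Cfsg.FusionSystem Cfsg.Agent.Helper25 Cfsg.Agent.Helper3.KL

variable {Ω : Type*} [Group Ω] {S : Subgroup Ω}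

/-- a strongly closed subgroup of order `p` is central in `S` -/
theorem weyp_central [Finite S] (p : ℕ) [Fact p.Prime] (hS : IsPGroup p S)
    (F : FusionSystem S) {Y : Subgroup Ω} (hY : F.StronglyClosed Y) (hcard : Nat.card Y = p)
    {g y : Ω} (hg : g ∈ S) (hy : y ∈ Y) : g * y * g⁻¹ = y := by
  haveI := Solv.normal_of_stronglyClosed hY
  have hc : Nat.card (Y.subgroupOf S) = p := by
    rw [← hcard]
    exact Nat.card_congr (Subgroup.subgroupOfEquivOfLe hY.1).toEquiv
  have h := Cfsg.Agent.Helper24.BG101.le_center_of_card_prime hS (Y.subgroupOf S) hc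
  have hyS : y ∈ S := hY.1 hy
  have h1 : (⟨y, hyS⟩ : S) ∈ Subgroup.center S := h (Subgroup.mem_subgroupOf.mpr hy)
  have h2 := Subgroup.mem_center_iff.mp h1 ⟨g, hg⟩
  have h3 : g * y = y * g := congrArg Subtype.val h2
  rw [h3, mul_assoc, mul_inv_cancel, mul_one]

/-- (i): every map of the system on `Y` is the inclusion -/
theorem weyp_hom_eq [Finite S] (p : ℕ) [Fact p.Prime] (hS : IsPGroup p S)
    (F : FusionSystem S) (hF : F.IsSaturated p) {d : ℕ} (hC : ConjGE F d) (hdS : d ≤ Nat.card S)
    {Y : Subgroup Ω} (hY : F.StronglyClosed Y) (hcard : Nat.card Y = p)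
    {φ : Y →* Ω} (hφ : φ ∈ F.Hom Y) (y : Y) : φ y = y := by
  have hYS : Y ≤ S := hY.1
  haveI : Finite Y := finite_of_le_finite hYS
  have hcen : ∀ {g y : Ω}, g ∈ S → y ∈ Y → g * y * g⁻¹ = y :=
    fun hg hy => weyp_central p hS F hY hcard hg hy
  -- range of φ is Y
  have hrle : φ.range ≤ Y := by
    rintro _ ⟨x, rfl⟩
    exact hY.2 Y le_rfl φ hφ x
  have hinj := F.injective_of_mem hφ
  have hrange : φ.range = Y := by
    apply Subgroup.eq_of_le_of_card_ge hrle
    rw [Nat.card_congr (MonoidHom.ofInjective hinj).toEquiv.symm]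
  -- Y fully normalized
  have hNY : normalizerIn S Y = S := by
    apply le_antisymm normalizerIn_le
    intro g hg
    refine mem_normalizerIn.mpr ⟨hg, ?_⟩
    rw [Subgroup.mem_normalizer_iff]
    intro h
    constructor
    · intro hh; rw [hcen hg hh]; exact hh
    · intro hh
      have : g⁻¹ * (g * h * g⁻¹) * g⁻¹⁻¹ = g * h * g⁻¹ := hcen (S.inv_mem hg) hh
      have h2 : g⁻¹ * (g * h * g⁻¹) * g⁻¹⁻¹ = h := by group
      rw [h2] at this
      rw [this]; exact hh
  have hfn : F.IsFullyNormalized Y := by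
    refine ⟨hYS, fun Q _ => ?_⟩
    rw [hNY]
    exact Subgroup.card_le_of_le normalizerIn_le
  have hrec : F.IsReceptive Y := (of_fullyNormalized p hS F hF hfn).2.2
  obtain ⟨ψ, hψ, hψφ⟩ := hrec.2 Y φ hφ hrange
  have hSext : S ≤ extender S Y φ := by
    intro g hg
    rw [mem_extender_iff]
    refine ⟨hg, ?_, 1, S.one_mem, ?_⟩
    · have : g ∈ normalizerIn S Y := by rw [hNY]; exact hg
      exact (mem_normalizerIn.mp this).2
    · intro x hx
      have : (⟨g * (x : Ω) * g⁻¹, hx⟩ : Y) = x := Subtype.ext (hcen hg x.2)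
      rw [this]; simp
  have hextS : extender S Y φ ≤ S := fun g hg => ((mem_extender_iff φ g).mp hg).1
  haveI : Finite (extender S Y φ) := finite_of_le_finite hextS
  have hdext : d ≤ Nat.card (extender S Y φ) := hdS.trans (Subgroup.card_le_of_le hSext)
  obtain ⟨g, hg, hgψ⟩ := hC _ ψ hψ hdext
  have hyext : (y : Ω) ∈ extender S Y φ := hSext (hYS y.2)
  have h1 := hψφ (y : Ω) y.2 hyext
  have h2 := hgψ ⟨(y : Ω), hyext⟩
  have h3 : φ y = φ ⟨(y : Ω), y.2⟩ := rfl
  rw [h3, ← h1, h2]
  exact hcen hg y.2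

theorem weyp_pow_apply {P : Subgroup Ω} (α : MulAut P) (x : P) (y : P)
    (hx : α x = x * y) (hy : α y = y) (n : ℕ) : (α ^ n) x = x * y ^ n := by
  induction n with
  | zero => simp
  | succ n ih =>
    rw [pow_succ', MulAut.mul_apply, ih, map_mul, map_pow, hx, hy, pow_succ', mul_assoc]

theorem card_hyperfocal_ne_prime [Finite S] (p : ℕ) [Fact p.Prime] (hS : IsPGroup p S)
    (F : FusionSystem S) (hF : F.IsSaturated p) {d : ℕ} (hC : ConjGE F d) (hdS : d ≤ Nat.card S) :
    Nat.card (F.hyperfocalSubgroup p) ≠ p := by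
  intro hcard
  have hp : p.Prime := Fact.out
  set Y := F.hyperfocalSubgroup p with hYdef
  have hY : F.StronglyClosed Y := Cfsg.Agent.S5124.result p hS F hF
  have hYS : Y ≤ S := hY.1
  haveI : Finite Y := finite_of_le_finite hYS
  -- every element of the residual has order dividing p
  have hpow : ∀ (P : Subgroup Ω), P ≤ S → ∀ α : F.autGroup P, α ∈ pResidual p (F.autGroup P) →
      α ^ p = 1 := by
    intro P hPS α hα
    have hgen : ∀ x : P, (x : Ω)⁻¹ * (((α : MulAut P) x : P) : Ω) ∈ Y :=
      fun x => hyperfocal_gen_mem F p hPS α hα x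
    by_cases hYP : Y ⊓ P = ⊥
    · have h1 : (α : MulAut P) = 1 := by
        ext x
        have hmem : (x : Ω)⁻¹ * (((α : MulAut P) x : P) : Ω) ∈ Y ⊓ P :=
          ⟨hgen x, P.mul_mem (P.inv_mem x.2) ((α : MulAut P) x).2⟩
        rw [hYP, Subgroup.mem_bot] at hmem
        have : (((α : MulAut P) x : P) : Ω) = x := by
          have := congrArg (fun z => (x : Ω) * z) hmem
          simpa using this
        simpa using this
      have h2 : α = 1 := Subtype.ext h1
      rw [h2, one_pow]
    · have hle : Y ≤ P := by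
        have hdvd : Nat.card (Y ⊓ P : Subgroup Ω) ∣ p := by
          rw [← hcard]; exact Subgroup.card_dvd_of_le inf_le_left
        rcases (Nat.dvd_prime hp).mp hdvd with h1 | h1
        · exact absurd (Subgroup.card_eq_one.mp h1) hYP
        · have : Y ⊓ P = Y := Subgroup.eq_of_le_of_card_ge inf_le_left (by rw [h1, hcard])
          rw [← this]; exact inf_le_right
      have hαF : P.subtype.comp (α : MulAut P).toMonoidHom ∈ F.Hom P :=
        (mem_autGroup_iff F hPS α).mp α.2
      have hres := restrict_mem F hle hαF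
      have hfix : ∀ y : Y, (((α : MulAut P) ⟨(y : Ω), hle y.2⟩ : P) : Ω) = y := by
        intro y
        exact weyp_hom_eq p hS F hF hC hdS hY hcard hres y
      have h1 : ((α : MulAut P)) ^ p = 1 := by
        ext x
        set yx : P := x⁻¹ * (α : MulAut P) x with hyx
        have hyxY : (yx : Ω) ∈ Y := by
          have := hgen x
          simpa [hyx] using this
        have hx : (α : MulAut P) x = x * yx := by rw [hyx]; group
        have hy : (α : MulAut P) yx = yx := by
          apply Subtype.ext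
          exact hfix ⟨(yx : Ω), hyxY⟩
        rw [weyp_pow_apply (α : MulAut P) x yx hx hy p]
        have hyp : yx ^ p = 1 := by
          apply Subtype.ext
          have : (⟨(yx : Ω), hyxY⟩ : Y) ^ p = 1 := by
            rw [← hcard]; exact pow_card_eq_one'
          have := congrArg Subtype.val this
          simpa using this
        rw [hyp]; simp
      apply Subtype.ext
      simpa using h1
  have hres : ∀ (P : Subgroup Ω), P ≤ S → pResidual p (F.autGroup P) = ⊥ := by
    intro P hPS
    unfold pResidual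
    rw [Subgroup.closure_eq_bot_iff]
    intro β hβ
    rw [Set.mem_singleton_iff]
    have hβ' : Nat.Coprime (orderOf β) p := hβ
    have h1 : β ^ p = 1 := hpow P hPS β (Subgroup.subset_closure hβ)
    have h2 : orderOf β ∣ p := orderOf_dvd_of_pow_eq_one h1
    exact orderOf_eq_one_iff.mp (Nat.Coprime.eq_one_of_dvd hβ' h2)
  have hbot : Y = ⊥ := by
    rw [hYdef]
    unfold FusionSystem.hyperfocalSubgroup
    rw [Subgroup.closure_eq_bot_iff]
    rintro y ⟨P, α, x, hPS, hα, rfl⟩
    rw [Set.mem_singleton_iff]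
    rw [hres P hPS, Subgroup.mem_bot] at hα
    rw [hα]
    simp
  rw [hbot, Subgroup.card_bot] at hcard
  exact hp.one_lt.ne hcard

end Cfsg.Agent.Helper18.WE
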