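import Mathlib
import Cfsg.Agent.Lib.WE.WEDefs
import Cfsg.Agent.Lib.WE.WET
import Cfsg.Agent.Lib.WE.WEConj
import Cfsg.Agent.Lib.WE.WEU
import Cfsg.Agent.Lib.WE.WEHypLe
import Cfsg.Agent.Lib.WE.WEHypBot
import Cfsg.Agent.Lib.WE.WEMinSc
import Cfsg.Agent.Lib.WE.WEMax
import Cfsg.Agent.Lib.WE.WEYp
import Cfsg.Agent.Lib.WE.WEDich
import Cfsg.Agent.Lib.WE.WETate
import Cfsg.Agent.Lib.Helper25.FusionNormal
import Cfsg.Agent.S5124

/-!
# S5271: the hard direction, by induction on `|S|` (assembly of the WE-* pieces)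
-/

set_option autoImplicit false

namespace Cfsg.Agent.Helper18.WE

open Cfsg Cfsg.FusionSystem Cfsg.Agent.Helper25 Cfsg.Agent.Helper3.KL

universe u

theorem main_ind (p : ℕ) [Fact p.Prime] : ∀ (n : ℕ) {Ω : Type u} [Group Ω] {S : Subgroup Ω} [Finite S]
    (_ : IsPGroup p S) (F : FusionSystem S) (_ : F.IsSaturated p), Nat.card S = n →
    ∀ d : ℕ, (∃ k : ℕ, d = p ^ k) → 1 < d → d < Nat.card S → HypA F d → HypB F d → IsInner F := by
  intro n
  induction n using Nat.strong_induction_on with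
  | _ n ih =>
  intro Ω _ S _ hS F hF hn d hd hd1 hdS hA hB
  have hC : ConjGE F d := conjGE p hS F hF hd hA hB
  by_contra hnot
  have hY0 : F.hyperfocalSubgroup p ≠ ⊥ := fun h => hnot (isInner_of_hyperfocal_eq_bot p hS F hF h)
  set Y := F.hyperfocalSubgroup p with hYdef
  have hYsc : F.StronglyClosed Y := Cfsg.Agent.S5124.result p hS F hF
  have IH : ∀ {Ω' : Type u} [Group Ω'] {S' : Subgroup Ω'} [Finite S'] (_ : IsPGroup p S')
      (E : FusionSystem S') (_ : E.IsSaturated p), Nat.card S' < Nat.card S →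
      ∀ d' : ℕ, (∃ k : ℕ, d' = p ^ k) → 1 < d' → d' < Nat.card S' → HypA E d' → HypB E d' →
        IsInner E := by
    intro Ω' _ S' _ hS' E hE hlt d' hd' hd1' hdS' hA' hB'
    exact ih (Nat.card S') (hn ▸ hlt) hS' E hE rfl d' hd' hd1' hdS' hA' hB'
  -- every minimal strongly closed subgroup contains Y
  have hmin : ∀ Z : Subgroup Ω, F.StronglyClosed Z → Z ≠ ⊥ →
      (∀ Z' : Subgroup Ω, F.StronglyClosed Z' → Z' ≤ Z → Z' = ⊥ ∨ Z' = Z) →
      Nat.card Z ≤ d ∧ InnerMod F Z ∧ Y ≤ Z := by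
    intro Z hZ hZne hZmin
    have h1 : Nat.card Z ≤ d := card_le_of_minimal p hS F hF hd hd1 hA hZ hZmin
    have h2 : InnerMod F Z := innerMod_of_sc p hS F hF hd hd1 hdS hA hC IH hZ hZne h1
    exact ⟨h1, h2, hyperfocal_le_of_innerMod p hS F hZ h2⟩
  have hU : ∀ P : Subgroup Ω, F.StronglyClosed P → P = ⊥ ∨ Y ≤ P := by
    intro P hP
    by_cases hPne : P = ⊥
    · exact Or.inl hPne
    · obtain ⟨Z, hZ, hZne, hZP, hZmin⟩ := exists_minimal_sc F hP hPne
      exact Or.inr ((hmin Z hZ hZne hZmin).2.2.trans hZP)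
  -- Y itself is minimal
  obtain ⟨Z, hZ, hZne, hZY, hZmin⟩ := exists_minimal_sc F hYsc hY0
  obtain ⟨hZd, hZI, hYZ⟩ := hmin Z hZ hZne hZmin
  have hZeq : Z = Y := le_antisymm hZY hYZ
  rw [hZeq] at hZd hZI
  -- |Y| ≥ p²
  have hYS : Y ≤ S := hYsc.1
  haveI : Finite Y := finite_of_le_finite hYS
  have hYp : IsPGroup p Y := hS.to_le hYS
  obtain ⟨j, hj⟩ := hYp.exists_card_eq
  have hj2 : 2 ≤ j := by
    rcases j with _ | _ | j
    · exfalso
      rw [pow_zero] at hj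
      exact hY0 (Subgroup.card_eq_one.mp hj)
    · exfalso
      rw [zero_add, pow_one] at hj
      exact card_hyperfocal_ne_prime p hS F hF hC hdS.le hj
    · omega
  have hYp2 : p ^ 2 ≤ Nat.card Y := by
    rw [hj]
    exact Nat.pow_le_pow_right (Fact.out : p.Prime).pos hj2
  have hdich : ∀ H : Subgroup Ω, H ≤ S → d ≤ Nat.card H → H ⊓ Y ≠ ⊥ → Y ≤ H :=
    fun H hH hdH hne => dichotomy p hS F hd hA hYS hZd hU hH hdH hne
  have hfr : Y ≤ (frattini ↥S).map S.subtype := le_frattini p hS hd hdS hYS hYp2 hdich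
  have hfoc := focal_le_frattini p hS F hZI hfr
  exact hY0 (hyperfocal_eq_bot_of_focal_le p hS F hF hfoc)

end Cfsg.Agent.Helper18.WE
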